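import Groth.Agent.CartanIn.NormOpen
import Groth.Agent.CartanPre.Borel
import Groth.Agent.NonAffine.BorelMain
import Groth.Agent.SolvGrp.BorelNorm
import Groth.Agent.S3910

/-!
# Borel subgroups are their own normalisers
-/

set_option backward.isDefEq.respectTransparency false
set_option backward.isDefEq.respectTransparency.types false
set_option linter.style.haveILetI false
set_option autoImplicit false
set_option maxHeartbeats 1000000
set_option synthInstance.maxHeartbeats 200000

universe u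

open CategoryTheory Limits MonoidalCategory CartesianMonoidalCategory MonObj AlgebraicGeometry

namespace Groth.Agent.CartanIn

open GrpSchLib GrpLimLib TorsionCent MultTypeLib.CosetLift AGFLib AGFLib.Gen AGFLib.BorelExist SolvGrp NonAffine

section Field

variable {k : Type u} [Field k] [IsAlgClosed k]

local notation "PT" => 𝟙_ (Over (Spec (CommRingCat.of k)))

/-- A rational point normalising a Borel subgroup of a smooth connected group lies in it. -/
theorem mem_borel_of_normalizes {G B : Over (Spec (CommRingCat.of k))} [GrpObj G] [GrpObj B] [Smooth G.hom]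
    [QuasiCompact G.hom] [ConnectedSpace G.left] {b : B ⟶ G} (hB : Red.IsBorelOver k b) (g : PT ⟶ G)
    (hg : ∀ w : PT ⟶ B, (∃ w', w' ≫ b = g * (w ≫ b) * g⁻¹) ∧ ∃ w', w' ≫ b = g⁻¹ * (w ≫ b) * g) :
    ∃ w, w ≫ b = g := by
  haveI := hB.1
  obtain ⟨P⟩ := exists_parts G
  haveI : Mono P.i := mono_of_closedImmersion P.i
  obtain ⟨D, _, d, _, zB, f, hD, hzB, hf, hpts⟩ := borel_part P hB
  obtain ⟨z, n, rfl⟩ := P.decomp g
  have hzc : ∀ e : PT ⟶ G, Commute (z ≫ P.z) e := fun e => P.central z e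
  -- points of the affine part in the Borel subgroup lie in its Borel subgroup
  have hND : ∀ (m : PT ⟶ P.N) (w : PT ⟶ B), w ≫ b = m ≫ P.i → m ∈ rangePts d := by
    intro m w hw
    obtain ⟨x, y, hxy⟩ := hpts w
    let ζ := m * (y ≫ d)⁻¹
    have hζ : ζ ≫ P.i = x ≫ P.z := by
      rw [MonObj.mul_comp, GrpObj.inv_comp, Category.assoc y, ← hw, hxy, mul_inv_cancel_right]
    obtain ⟨a, y', ha⟩ := Groth.Agent.S3910.result k P.N D d hD ζ
    have hcent : Commute ζ a := by
      show ζ * a = a * ζ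
      rw [← cancel_mono P.i, MonObj.mul_comp ζ a, MonObj.mul_comp a ζ, hζ]
      exact P.central x _
    have hy' : y' ≫ d = ζ :=
      calc y' ≫ d = a⁻¹ * (a * (y' ≫ d) * a⁻¹) * a := by group
        _ = a⁻¹ * (ζ * a) := by rw [ha, _root_.mul_assoc]
        _ = ζ := by rw [hcent.eq, inv_mul_cancel_left]
    exact ⟨y' * y, by
      show (y' * y) ≫ d = m
      rw [MonObj.mul_comp, hy', inv_mul_cancel_right]⟩
  have hn : n ∈ rangePts d := SolvGrp.normalizer_borel d hD n (by
    rintro _ ⟨y, rfl⟩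
    show n * (y ≫ d) * n⁻¹ ∈ _ ∧ n⁻¹ * (y ≫ d) * n ∈ _
    obtain ⟨⟨w₁, h₁⟩, w₂, h₂⟩ := hg (y ≫ f)
    rw [Category.assoc, hf] at h₁ h₂
    refine ⟨hND _ w₁ (h₁.trans ?_), hND _ w₂ (h₂.trans ?_)⟩
    · simp only [MonObj.mul_comp, GrpObj.inv_comp, Category.assoc]
      have e := (hzc ((n ≫ P.i) * (y ≫ d ≫ P.i) * (n ≫ P.i)⁻¹)).eq
      generalize z ≫ P.z = A at e ⊢
      generalize n ≫ P.i = N' at e ⊢
      generalize y ≫ d ≫ P.i = Y at e ⊢
      calc A * N' * Y * (A * N')⁻¹ = A * (N' * Y * N'⁻¹) * A⁻¹ := by group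
        _ = N' * Y * N'⁻¹ := by rw [e, mul_inv_cancel_right]
    · simp only [MonObj.mul_comp, GrpObj.inv_comp, Category.assoc]
      have e := (hzc (y ≫ d ≫ P.i)).eq
      generalize z ≫ P.z = A at e ⊢
      generalize n ≫ P.i = N' at e ⊢
      generalize y ≫ d ≫ P.i = Y at e ⊢
      calc (A * N')⁻¹ * Y * (A * N') = N'⁻¹ * (A⁻¹ * (Y * A)) * N' := by group
        _ = N'⁻¹ * Y * N' := by rw [← e, inv_mul_cancel_left])
  obtain ⟨y, hy⟩ := hn
  change y ≫ d = n at hy
  exact ⟨(z ≫ zB) * (y ≫ f), by rw [MonObj.mul_comp, Category.assoc, hzB, Category.assoc, hf, reassoc_of% hy]⟩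

end Field

variable {S : Scheme.{u}}

set_option maxHeartbeats 2000000 in
/-- A Borel subgroup scheme is its own normaliser and is closed. -/
theorem borel_normalizer {G B : Over S} [GrpObj G] [GrpObj B] [Smooth G.hom] [IsSeparated G.hom] [QuasiCompact G.hom]
    (hconn : ∀ s : S, _root_.IsConnected (G.hom.base ⁻¹' {s})) (b : B ⟶ G) [IsMonHom b] [Mono b] [Smooth B.hom]
    (hB : ∀ s : S, Red.IsBorelOver (AlgebraicClosure (S.residueField s)) ((Over.pullback (Red.geomPt s)).map b)) :
    Red.IsNormalizerOf b b ∧ IsClosedImmersion b.left := by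
  haveI : Mono b.left := inferInstanceAs (Mono ((Over.forget _).map b))
  haveI : IsSeparated B.hom := by rw [← Over.w b]; infer_instance
  have hBconn : ∀ s : S, _root_.IsConnected (B.hom.base ⁻¹' {s}) := fun s => by
    haveI : ConnectedSpace ↥(Red.geomFibre s B).left := (hB s).2.2.2.1
    exact FixTorus.isConnected_preimage_of_geomFibre B s
  have hBC : ∀ s : S, ∃ (C' : Over (Spec (CommRingCat.of (AlgebraicClosure (S.residueField s))))) (_ : GrpObj C')
      (c' : C' ⟶ Red.geomFibre s B), SGA3x.IsCartanOver _ (c' ≫ (Over.pullback (Red.geomPt s)).map b) := fun s => by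
    haveI : Smooth (Red.geomFibre s G).hom := inferInstanceAs (Smooth (pullback.snd G.hom (Red.geomPt s)))
    haveI : QuasiCompact (Red.geomFibre s G).hom := inferInstanceAs (QuasiCompact (pullback.snd G.hom (Red.geomPt s)))
    haveI := FixTorus.connectedSpace_geomFibre s (hconn s)
    exact CartanPre.exists_cartan_in_borel (hB s)
  obtain ⟨N, _, n, hn, hnc, hnf⟩ := SmoothWeilLib.exists_normalizer hBconn b
  haveI := hn.1; haveI := hn.2.1; haveI := hnc; haveI := hnf
  haveI : LocallyOfFinitePresentation N.hom := by rw [← Over.w n]; infer_instance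
  obtain ⟨f, hf⟩ := (hn.2.2 B b).mpr fun X' x h =>
    ⟨⟨x * h * x⁻¹, by rw [MonObj.mul_comp, MonObj.mul_comp, GrpObj.inv_comp]⟩,
      ⟨x⁻¹ * h * x, by rw [MonObj.mul_comp, MonObj.mul_comp, GrpObj.inv_comp]⟩⟩
  haveI := isOpenImmersion_toNormalizer b hBC n (fun X z T q h => ((hn.2.2 X (z ≫ n)).mp ⟨z, rfl⟩ T q h).1) f hf
  haveI : Surjective f.left := TorsionCent.surjective_of_geomPt f fun s => by
    let p := Red.geomPt s
    haveI : (Over.pullback p).IsRightAdjoint := (Over.mapPullbackAdj p).isRightAdjoint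
    haveI : Smooth (Red.geomFibre s G).hom := inferInstanceAs (Smooth (pullback.snd G.hom p))
    haveI : QuasiCompact (Red.geomFibre s G).hom := inferInstanceAs (QuasiCompact (pullback.snd G.hom p))
    haveI := FixTorus.connectedSpace_geomFibre s (hconn s)
    haveI : LocallyOfFinitePresentation (Red.geomFibre s N).hom :=
      inferInstanceAs (LocallyOfFinitePresentation (pullback.snd N.hom p))
    haveI : IsOpenImmersion ((Over.pullback p).map f).left :=
      MorphismProperty.of_isPullback (P := @IsOpenImmersion) (MultTypeLib.FreeAction.isPullback_map p f) inferInstance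
    refine ⟨fun x => ?_⟩
    by_contra hx
    let F := ((Over.pullback p).map f).left
    have hne : ((Set.range F)ᶜ : Set (Red.geomFibre s N).left).Nonempty := ⟨x, fun ⟨t, ht⟩ => hx ⟨t, ht⟩⟩
    haveI : JacobsonSpace (Red.geomFibre s N).left := LocallyOfFiniteType.jacobsonSpace (Red.geomFibre s N).hom
    obtain ⟨q, hq, hqc⟩ := nonempty_inter_closedPoints hne F.isOpenMap.isOpen_range.isClosed_compl.isLocallyClosed
    obtain ⟨t, rfl⟩ := exists_cp hqc
    have hN := ((SolvGrp.isNormalizerOf_bc p b n hn).2.2 _ (t ≫ (Over.pullback p).map n)).mp ⟨t, rfl⟩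
    obtain ⟨w, hw⟩ := mem_borel_of_normalizes (hB s) (t ≫ (Over.pullback p).map n) fun w => by
      obtain ⟨⟨w₁, h₁⟩, w₂, h₂⟩ := hN _ (𝟙 _) w
      rw [Category.id_comp] at h₁ h₂
      exact ⟨⟨w₁, h₁.symm⟩, w₂, h₂.symm⟩
    have e : w ≫ (Over.pullback p).map f = t := by
      rw [← cancel_mono ((Over.pullback p).map n), Category.assoc, ← Functor.map_comp, hf, hw]
    exact hq ⟨w.left (IsLocalRing.closedPoint _), by
      show (Over.Hom.left w ≫ F) _ = _
      exact congrArg (fun m : 𝟙_ _ ⟶ Red.geomFibre s N => m.left (IsLocalRing.closedPoint (AlgebraicClosure (S.residueField s)))) e⟩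
  haveI : IsIso f.left := (isIso_iff_isOpenImmersion_and_surjective f.left).mpr ⟨inferInstance, inferInstance⟩
  haveI : IsIso ((Over.forget _).map f) := ‹IsIso f.left›
  haveI : IsIso f := isIso_of_reflects_iso f (Over.forget _)
  refine ⟨⟨inferInstance, inferInstance, fun X g => ⟨?_, fun h => ?_⟩⟩, by rw [← hf, Over.comp_left]; infer_instance⟩
  · rintro ⟨z, rfl⟩
    exact (hn.2.2 X (z ≫ b)).mp ⟨z ≫ f, by rw [Category.assoc, hf]⟩
  · obtain ⟨z, hz⟩ := (hn.2.2 X g).mpr h
    exact ⟨z ≫ inv f, by rw [← hf, Category.assoc, IsIso.inv_hom_id_assoc, hz]⟩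

end Groth.Agent.CartanIn
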