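import Groth.Agent.CartanIn.TransTorus

/-!
# Cartan subgroups are conjugate étale locally
-/

set_option backward.isDefEq.respectTransparency false
set_option backward.isDefEq.respectTransparency.types false
set_option linter.style.haveILetI false
set_option autoImplicit false
set_option maxHeartbeats 1000000
set_option synthInstance.maxHeartbeats 200000

universe u

open CategoryTheory Limits MonoidalCategory CartesianMonoidalCategory MonObj AlgebraicGeometry

namespace Groth.Agent.CartanIn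

open GrpSchLib GrpLimLib TorsionCent MaxTorTransp MultTypeLib.CosetLift MaxTorCent

variable {S : Scheme.{u}}

/-- A section conjugating a Cartan subgroup into another conjugates it onto it. -/
theorem isIso_of_conj {G C₁ C₂ : Over S} [GrpObj G] [GrpObj C₁] [GrpObj C₂] [Smooth G.hom] [IsSeparated G.hom]
    [QuasiCompact G.hom] {c₁ : C₁ ⟶ G} (h₁ : SGA3x.IsCartan c₁) {c₂ : C₂ ⟶ G} (h₂ : SGA3x.IsCartan c₂)
    (sec : 𝟙_ (Over S) ⟶ G) (b : C₁ ⟶ C₂) (hb : b ≫ c₂ = c₁ ≫ conjEnd sec) : IsIso b := by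
  haveI := h₁.1; haveI := h₁.2.1; haveI := h₁.2.2.1; haveI := h₂.1; haveI := h₂.2.1; haveI := h₂.2.2.1
  haveI : Mono (b ≫ c₂) := by rw [hb]; infer_instance
  haveI : Mono b := mono_of_mono b c₂
  haveI : IsMonHom b := MaxTorusBC.isMonHom_of_mono b c₂ (by rw [hb]; infer_instance)
  refine isIso_of_fibre_sections b fun s => ?_
  let p := Red.geomPt s
  haveI : (Over.pullback p).IsRightAdjoint := (Over.mapPullbackAdj p).isRightAdjoint
  haveI : Smooth (Red.geomFibre s G).hom := inferInstanceAs (Smooth (pullback.snd G.hom p))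
  haveI : QuasiCompact (Red.geomFibre s G).hom := inferInstanceAs (QuasiCompact (pullback.snd G.hom p))
  obtain ⟨-, -, T, _, iT, hT, hc₁⟩ := h₁.2.2.2 s
  haveI := hT.1; haveI := hT.2.1
  obtain ⟨l, hl⟩ := (hc₁.2.2 T iT).mpr fun X' a h => by
    rw [← MonObj.mul_comp, ← MonObj.mul_comp,
      GrpSchLib.MultTypeComm.points_comm (TorusQI.isMultTypeFT_of_isTorus hT.2.2.1) a h]
  let φ := (Over.pullback p).map (conjEnd sec)
  have hφ : φ ≫ (Over.pullback p).map (conjEnd sec⁻¹) = 𝟙 _ := by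
    rw [← Functor.map_comp, conjEnd_conjEnd sec sec⁻¹ rfl, CategoryTheory.Functor.map_id]
  have hbs : (Over.pullback p).map b ≫ (Over.pullback p).map c₂ = (Over.pullback p).map c₁ ≫ φ := by
    rw [← Functor.map_comp, hb, Functor.map_comp]
  have e : (l ≫ (Over.pullback p).map b) ≫ (Over.pullback p).map c₂ = iT ≫ φ := by
    rw [Category.assoc, hbs, reassoc_of% hl]
  have hc := isCentralizerOf_of_cartanOver (h₂.2.2.2 s) (l ≫ (Over.pullback p).map b)
    (e.symm ▸ isMaximalTorus_comp_iso hT φ)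
  obtain ⟨β, hβ⟩ := (hc₁.2.2 _ ((Over.pullback p).map c₂ ≫ (Over.pullback p).map (conjEnd sec⁻¹))).mpr fun X' x a => by
    have e' := congrArg (· ≫ (Over.pullback p).map (conjEnd sec⁻¹))
      ((hc.2.2 _ ((Over.pullback p).map c₂)).mp ⟨𝟙 _, Category.id_comp _⟩ X' x a)
    rw [e] at e'
    simp only [MonObj.mul_comp, Category.assoc, hφ] at e'
    erw [Category.comp_id] at e'
    exact e'
  refine ⟨β, ?_⟩
  rw [← cancel_mono ((Over.pullback p).map c₂), Category.assoc, hbs, reassoc_of% hβ, Category.id_comp,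
    ← Functor.map_comp, ← Functor.map_comp, conjEnd_conjEnd sec⁻¹ sec (inv_inv sec).symm, Category.comp_id]

set_option maxHeartbeats 2000000 in
/-- Two Cartan subgroups of a group with connected fibres are conjugate étale locally. -/
theorem exists_etale_conj_cartan {G C₁ C₂ : Over S} [GrpObj G] [GrpObj C₁] [GrpObj C₂] [Smooth G.hom]
    [IsSeparated G.hom] [QuasiCompact G.hom] (hconn : ∀ s : S, _root_.IsConnected (G.hom.base ⁻¹' {s}))
    (c₁ : C₁ ⟶ G) (c₂ : C₂ ⟶ G) (h₁ : SGA3x.IsCartan c₁) (h₂ : SGA3x.IsCartan c₂) :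
    ∃ (S' : Scheme.{u}) (f : S' ⟶ S), Etale f ∧ Surjective f ∧
      ∃ g : 𝟙_ (Over S') ⟶ Red.bc f G, SGA3x.ConjBy ((Over.pullback f).map c₁) ((Over.pullback f).map c₂) g := by
  haveI := h₂.1; haveI := h₂.2.1; haveI := h₂.2.2.1
  obtain ⟨M, m, -, hMs, hM⟩ := exists_transporter_cartan hconn c₂ c₁ h₁
  haveI := hMs
  haveI := surjective_transporter c₂ (fun s => ⟨Red.geomFibre s C₂, inferInstance, 𝟙 _, by
    rw [Category.id_comp]; exact h₂.2.2.2 s⟩) c₁ h₁ m hM
  obtain ⟨S', f, hf, hfs, h, hh⟩ := exists_etale_section M.hom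
  haveI : (Over.pullback f).IsRightAdjoint := (Over.mapPullbackAdj f).isRightAdjoint
  haveI : Smooth (Red.bc f G).hom := inferInstanceAs (Smooth (pullback.snd G.hom f))
  haveI : IsSeparated (Red.bc f G).hom := inferInstanceAs (IsSeparated (pullback.snd G.hom f))
  haveI : QuasiCompact (Red.bc f G).hom := inferInstanceAs (QuasiCompact (pullback.snd G.hom f))
  let pt : (Over.map f).obj (𝟙_ (Over S')) ⟶ M := Over.homMk h (hh.trans (Category.id_comp f).symm)
  obtain ⟨sec, hsec⟩ := (DSPtsLib.theta_bijective (g := f) (Y := 𝟙_ (Over S')) (H := G)).2 (pt ≫ m)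
  obtain ⟨b, hb⟩ := (into_iff c₂ c₁ f sec).mp (hsec ▸ (hM _ _).mp ⟨pt, rfl⟩)
  haveI := isIso_of_conj (isCartan_bc h₁ f) (isCartan_bc h₂ f) sec b hb
  exact ⟨S', f, hf, hfs, sec, asIso b, by rw [asIso_hom, hb, comp_conjEnd]⟩

end Groth.Agent.CartanIn
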