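import Groth.Agent.CartanIn.Torus
import Groth.Agent.MaxTorTransp.Descend
import Groth.Agent.MaxTorusBC.Fibre
import Groth.Agent.NonAffine.PartsImage
import Groth.Agent.NonAffine.IdComp
import Groth.Agent.FixTorus.Conn

/-!
# Cartan subgroups and extensions of algebraically closed fields
-/

set_option backward.isDefEq.respectTransparency false
set_option backward.isDefEq.respectTransparency.types false
set_option linter.style.haveILetI false
set_option autoImplicit false
set_option maxHeartbeats 1000000
set_option synthInstance.maxHeartbeats 200000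

universe u

open CategoryTheory Limits MonoidalCategory CartesianMonoidalCategory MonObj AlgebraicGeometry

namespace Groth.Agent.CartanIn

open GrpSchLib GrpLimLib TorsionCent MaxTorTransp MaxTorCent

section Field

variable {k K : Type u} [Field k] [IsAlgClosed k] [Field K] [IsAlgClosed K]

omit [IsAlgClosed k] [IsAlgClosed K] in
/-- A morphism to a field spectrum is faithfully flat and quasi-compact. -/
theorem cover_field (σ : Spec (CommRingCat.of K) ⟶ Spec (CommRingCat.of k)) :
    Surjective σ ∧ Flat σ ∧ QuasiCompact σ :=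
  ⟨⟨fun x => ⟨IsLocalRing.closedPoint K, Subsingleton.elim (α := PrimeSpectrum k) _ x⟩⟩,
    MorLib.BF.flat_to_field (Field.toIsField k) σ, inferInstance⟩

omit [IsAlgClosed k] [IsAlgClosed K] in
/-- Base change to a field is faithful. -/
theorem map_injective_field (σ : Spec (CommRingCat.of K) ⟶ Spec (CommRingCat.of k))
    {X Y : Over (Spec (CommRingCat.of k))} {a b : X ⟶ Y} (h : (Over.pullback σ).map a = (Over.pullback σ).map b) :
    a = b := by
  obtain ⟨h1, h2, h3⟩ := cover_field σ
  haveI := h1; haveI := h2; haveI := h3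
  haveI : Epi (pullback.fst X.hom σ) :=
    ((FpqcDescLib.covers_of_isCovering (FpqcDescLib.isCovering_of_quasiCompact σ)).pullback X.hom _ _
      (IsPullback.of_hasPullback X.hom σ)).epi
  apply Over.OverMorphism.ext
  rw [← cancel_epi (pullback.fst X.hom σ), ← GrpLimLib.map_left_fst a, ← GrpLimLib.map_left_fst b, h]

/-- Cartan subgroups stay Cartan subgroups over a bigger field. -/
theorem cartanOver_bc (σ : Spec (CommRingCat.of K) ⟶ Spec (CommRingCat.of k))
    {G C : Over (Spec (CommRingCat.of k))} [GrpObj G] [GrpObj C] [Smooth G.hom] [IsSeparated G.hom] [QuasiCompact G.hom]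
    {c : C ⟶ G} (hC : SGA3x.IsCartanOver k c) : SGA3x.IsCartanOver K ((Over.pullback σ).map c) := by
  obtain ⟨h1, h2, U, _, u, hU, hcen⟩ := hC
  haveI := h1; haveI := h2
  haveI : (Over.pullback σ).IsRightAdjoint := (Over.mapPullbackAdj σ).isRightAdjoint
  exact ⟨inferInstance, inferInstance, Red.bc σ U, inferInstance, (Over.pullback σ).map u, isMaximalTorus_bc hU σ,
    SolvGrp.isCentralizerOf_bc σ u _ hcen⟩

/-- Being a Cartan subgroup descends along extensions of algebraically closed fields. -/
theorem cartanOver_of_bc (σ : Spec (CommRingCat.of K) ⟶ Spec (CommRingCat.of k))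
    {G H : Over (Spec (CommRingCat.of k))} [GrpObj G] [GrpObj H] [Smooth G.hom] [IsSeparated G.hom] [QuasiCompact G.hom]
    [Smooth H.hom] [QuasiCompact H.hom] [ConnectedSpace H.left] (i : H ⟶ G) [IsMonHom i] [Mono i]
    (h : SGA3x.IsCartanOver K ((Over.pullback σ).map i)) : SGA3x.IsCartanOver k i := by
  haveI : (Over.pullback σ).IsRightAdjoint := (Over.mapPullbackAdj σ).isRightAdjoint
  obtain ⟨hσs, hσf, hσq⟩ := cover_field σ
  haveI := hσs; haveI := hσf; haveI := hσq
  haveI : Smooth (Red.bc σ G).hom := inferInstanceAs (Smooth (pullback.snd G.hom σ))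
  haveI : QuasiCompact (Red.bc σ G).hom := inferInstanceAs (QuasiCompact (pullback.snd G.hom σ))
  haveI : Smooth (Red.bc σ H).hom := inferInstanceAs (Smooth (pullback.snd H.hom σ))
  haveI : QuasiCompact (Red.bc σ H).hom := inferInstanceAs (QuasiCompact (pullback.snd H.hom σ))
  haveI := AntiAffine.isSeparated_grp H
  let σi := (Over.pullback σ).map i
  obtain ⟨T, _, t, ht⟩ := NonAffine.exists_maxTorus (G := H)
  have ht' := NonAffine.isMaximalTorus_of_isMaxTorus ht
  haveI := ht'.1; haveI := ht'.2.1
  have hmult := TorusQI.isMultTypeFT_of_isTorus ht'.2.2.1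
  have hid : SGA3x.IsCartanOver K (𝟙 (Red.bc σ H) ≫ σi) := by rw [Category.id_comp]; exact h
  obtain ⟨hmaxK, hfac⟩ := maxTorus_comp σi hid (isMaximalTorus_bc ht' σ)
  rw [← Functor.map_comp] at hmaxK
  have hmax : Red.IsMaximalTorus (t ≫ i) :=
    (MaxTorusBC.isMaximalTorus_bc_iff (t ≫ i) ht'.2.2.1 σ hσs).mpr hmaxK
  have hcenK := isCentralizerOf_of_cartanOver h ((Over.pullback σ).map t)
    (by rw [← Functor.map_comp]; exact hmaxK)
  -- the torus is central
  have hcomm : (fst H T ≫ i) * (snd H T ≫ t ≫ i) = (snd H T ≫ t ≫ i) * (fst H T ≫ i) := by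
    apply map_injective_field σ
    simp only [Functor.map_mul, Functor.map_comp]
    have e := (hcenK.2.2 _ ((Over.pullback σ).map (fst H T) ≫ σi)).mp ⟨_, rfl⟩ _ (𝟙 _) ((Over.pullback σ).map (snd H T))
    rw [Category.id_comp] at e
    exact e
  obtain ⟨C, _, c, hc, hcc, hCs⟩ := MaxTorCent.exists_centralizer (t ≫ i) hmult
  haveI := hc.1; haveI := hc.2.1; haveI := hcc; haveI := hCs
  obtain ⟨w, hw⟩ := (hc.2.2 H i).mpr fun X' x a => by
    have e := congrArg (lift x a ≫ ·) hcomm
    simpa only [MonObj.comp_mul, lift_fst_assoc, lift_snd_assoc] using e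
  haveI : Mono (w ≫ c) := by rw [hw]; infer_instance
  haveI : Mono w := mono_of_mono w c
  haveI : IsIso ((Over.pullback σ).map w) := by
    obtain ⟨l, hl⟩ := hfac (Red.bc σ C) ((Over.pullback σ).map c) fun X' x a => by
      have e := ((SolvGrp.isCentralizerOf_bc σ (t ≫ i) c hc).2.2 _ ((Over.pullback σ).map c)).mp
        ⟨𝟙 _, Category.id_comp _⟩ X' x a
      rwa [Functor.map_comp] at e
    haveI : IsSplitEpi ((Over.pullback σ).map w) := IsSplitEpi.mk' ⟨l, by
      rw [← cancel_mono ((Over.pullback σ).map c), Category.assoc, ← Functor.map_comp, hw, hl, Category.id_comp]⟩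
    exact isIso_of_mono_of_isSplitEpi _
  haveI : IsIso ((Over.pullback σ).map w).left := inferInstanceAs (IsIso ((Over.forget _).map ((Over.pullback σ).map w)))
  haveI : IsIso w.left := GrpSchLib.TorsorMap.isIso_of_bc w.left (pullback.fst C.hom σ) _ _
    (MaxTorusBC.isPullback_map σ w)
  haveI : IsIso ((Over.forget _).map w) := ‹IsIso w.left›
  haveI : IsIso w := isIso_of_reflects_iso w (Over.forget _)
  refine ⟨inferInstance, inferInstance, T, inferInstance, t ≫ i, hmax, inferInstance, inferInstance, fun X g => ?_⟩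
  rw [← hc.2.2 X g]
  exact ⟨fun ⟨z, hz⟩ => ⟨z ≫ w, by rw [Category.assoc, hw, hz]⟩,
    fun ⟨z, hz⟩ => ⟨z ≫ inv w, by rw [← hw, Category.assoc, IsIso.inv_hom_id_assoc, hz]⟩⟩

end Field

variable {S : Scheme.{u}}

/-- Being a Cartan subgroup on a geometric fibre only depends on the point of the base. -/
theorem cartanOver_iff_point {G H : Over S} [GrpObj G] [GrpObj H] [Smooth G.hom] [IsSeparated G.hom]
    [QuasiCompact G.hom] [Smooth H.hom] [QuasiCompact H.hom] (hH : ∀ s : S, _root_.IsConnected (H.hom.base ⁻¹' {s}))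
    (i : H ⟶ G) [IsMonHom i] [Mono i] {Ω : Type u} [Field Ω] [IsAlgClosed Ω] (b : Spec (CommRingCat.of Ω) ⟶ S)
    (s : S) (hs : b (IsLocalRing.closedPoint Ω) = s) :
    SGA3x.IsCartanOver Ω ((Over.pullback b).map i) ↔
      SGA3x.IsCartanOver (AlgebraicClosure (S.residueField s)) ((Over.pullback (Red.geomPt s)).map i) := by
  obtain ⟨s', σ, hσ⟩ := exists_geom_factor b
  obtain rfl : s' = s := by
    rw [← hs, ← hσ, Scheme.Hom.comp_apply]
    exact (Scheme.fromSpecResidueField_apply s' _).symm
  let p := Red.geomPt s'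
  haveI : (Over.pullback p).IsRightAdjoint := (Over.mapPullbackAdj p).isRightAdjoint
  haveI : (Over.pullback σ).IsRightAdjoint := (Over.mapPullbackAdj σ).isRightAdjoint
  haveI : (Over.pullback b).IsRightAdjoint := (Over.mapPullbackAdj b).isRightAdjoint
  haveI : Smooth (Red.geomFibre s' G).hom := inferInstanceAs (Smooth (pullback.snd G.hom p))
  haveI : IsSeparated (Red.geomFibre s' G).hom := inferInstanceAs (IsSeparated (pullback.snd G.hom p))
  haveI : QuasiCompact (Red.geomFibre s' G).hom := inferInstanceAs (QuasiCompact (pullback.snd G.hom p))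
  haveI : Smooth (Red.geomFibre s' H).hom := inferInstanceAs (Smooth (pullback.snd H.hom p))
  haveI : QuasiCompact (Red.geomFibre s' H).hom := inferInstanceAs (QuasiCompact (pullback.snd H.hom p))
  haveI := FixTorus.connectedSpace_geomFibre s' (hH s')
  haveI := isMonHom_cmp_hom hσ G
  have e := MaxTorusBC.cmp_naturality hσ i
  constructor
  · intro h
    haveI : IsMonHom (cmp hσ G).symm.hom := inferInstanceAs (IsMonHom (cmp hσ G).inv)
    exact cartanOver_of_bc σ _ (isCartanOver_of_iso h (cmp hσ H).symm (cmp hσ G).symm (by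
      rw [Iso.symm_hom, Iso.symm_hom, Iso.inv_comp_eq, ← Category.assoc, ← e, Category.assoc, Iso.hom_inv_id]
      exact (Category.comp_id _).symm))
  · exact fun h => isCartanOver_of_iso (cartanOver_bc σ h) (cmp hσ H) (cmp hσ G) e.symm

end Groth.Agent.CartanIn
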