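import Groth.Agent.CartanIn.CartanOpen
import Groth.Agent.DescLib.SigmaLocal
import Groth.Agent.TorusQI.MaxSubtorus
import Groth.Agent.S4098
import Groth.Agent.GeomIrrSpread.NeutralUnivOpen
import Groth.Agent.S0412

/-!
# A group with Cartan subgroups fpqc locally has them étale locally
-/

set_option backward.isDefEq.respectTransparency false
set_option backward.isDefEq.respectTransparency.types false
set_option linter.style.haveILetI false
set_option autoImplicit false
set_option maxHeartbeats 1000000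
set_option synthInstance.maxHeartbeats 200000

universe u

open CategoryTheory Limits MonoidalCategory CartesianMonoidalCategory MonObj AlgebraicGeometry

namespace Groth.Agent.CartanIn

open GrpSchLib GrpLimLib TorsionCent MaxTorTransp MaxTorCent

variable {S S' : Scheme.{u}}

/-- Being a Cartan subgroup on the fibres commutes with base change. -/
theorem cartanOver_bc_iff {G H : Over S} [GrpObj G] [GrpObj H] [Smooth G.hom] [IsSeparated G.hom]
    [QuasiCompact G.hom] [Smooth H.hom] [QuasiCompact H.hom] (hH : ∀ s : S, _root_.IsConnected (H.hom.base ⁻¹' {s}))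
    (i : H ⟶ G) [IsMonHom i] [Mono i] (f : S' ⟶ S) (y : S') :
    SGA3x.IsCartanOver (AlgebraicClosure (S'.residueField y))
        ((Over.pullback (Red.geomPt y)).map ((Over.pullback f).map i)) ↔
      SGA3x.IsCartanOver (AlgebraicClosure (S.residueField (f y))) ((Over.pullback (Red.geomPt (f y))).map i) := by
  let q := Red.geomPt y
  haveI : (Over.pullback f).IsRightAdjoint := (Over.mapPullbackAdj f).isRightAdjoint
  haveI : (Over.pullback q).IsRightAdjoint := (Over.mapPullbackAdj q).isRightAdjoint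
  haveI : (Over.pullback (q ≫ f)).IsRightAdjoint := (Over.mapPullbackAdj (q ≫ f)).isRightAdjoint
  haveI := isMonHom_cmp_hom (rfl : q ≫ f = _) G
  haveI : IsMonHom (cmp (rfl : q ≫ f = _) G).symm.hom := inferInstanceAs (IsMonHom (cmp (rfl : q ≫ f = _) G).inv)
  rw [← cartanOver_iff_point hH i (q ≫ f) (f y) (by
    rw [Scheme.Hom.comp_apply]
    exact congrArg f (Scheme.fromSpecResidueField_apply y _))]
  have e := MaxTorusBC.cmp_naturality (rfl : q ≫ f = _) i
  exact ⟨fun h => isCartanOver_of_iso h (cmp rfl H) (cmp rfl G) e.symm,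
    fun h => isCartanOver_of_iso h (cmp rfl H).symm (cmp rfl G).symm (by
      rw [Iso.symm_hom, Iso.symm_hom, Iso.inv_comp_eq, ← Category.assoc, ← e, Category.assoc, Iso.hom_inv_id]
      exact (Category.comp_id _).symm)⟩

/-- When Cartan subgroups exist fpqc locally, being a Cartan subgroup is open. -/
theorem isOpen_cartan_locus_cover {G Z : Over S} [GrpObj G] [GrpObj Z] [Smooth G.hom] [IsSeparated G.hom]
    [QuasiCompact G.hom] [Smooth Z.hom] [QuasiCompact Z.hom]
    (hconn : ∀ s : S, _root_.IsConnected (G.hom.base ⁻¹' {s})) (hZ : ∀ s : S, _root_.IsConnected (Z.hom.base ⁻¹' {s}))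
    (z : Z ⟶ G) [IsMonHom z] [Mono z] (f : S' ⟶ S) [Flat f]
    (hf : ∀ V : S.Opens, IsAffineOpen V → ∃ W : S'.Opens, IsCompact (W : Set S') ∧ f.base '' (W : Set S') = (V : Set S))
    {C : Over S'} [GrpObj C] {c : C ⟶ Red.bc f G} (hC : SGA3x.IsCartan c) :
    IsOpen {s : S | SGA3x.IsCartanOver (AlgebraicClosure (S.residueField s)) ((Over.pullback (Red.geomPt s)).map z)} := by
  haveI : (Over.pullback f).IsRightAdjoint := (Over.mapPullbackAdj f).isRightAdjoint
  haveI : Smooth (Red.bc f G).hom := inferInstanceAs (Smooth (pullback.snd G.hom f))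
  haveI : IsSeparated (Red.bc f G).hom := inferInstanceAs (IsSeparated (pullback.snd G.hom f))
  haveI : QuasiCompact (Red.bc f G).hom := inferInstanceAs (QuasiCompact (pullback.snd G.hom f))
  haveI : Smooth (Red.bc f Z).hom := inferInstanceAs (Smooth (pullback.snd Z.hom f))
  haveI : QuasiCompact (Red.bc f Z).hom := inferInstanceAs (QuasiCompact (pullback.snd Z.hom f))
  refine HomUnitLocus.isOpen_of_preimage f hf ?_
  have h := isOpen_cartan_locus (RedCentre.isConnected_fibre_bc f G hconn) (RedCentre.isConnected_fibre_bc f Z hZ)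
    ((Over.pullback f).map z) hC
  convert h using 1
  exact Set.ext fun y => (cartanOver_bc_iff hZ z f y).symm

/-- Cartan subgroups are preserved by isomorphisms of the group. -/
theorem isCartan_comp_iso {G G' C : Over S} [GrpObj G] [GrpObj G'] [GrpObj C] {c : C ⟶ G} (hC : SGA3x.IsCartan c)
    (e : G ≅ G') [IsMonHom e.hom] : SGA3x.IsCartan (c ≫ e.hom) := by
  haveI := hC.1; haveI := hC.2.1; haveI := hC.2.2.1
  refine ⟨inferInstance, inferInstance, inferInstance, fun s => ?_⟩
  haveI : (Over.pullback (Red.geomPt s)).IsRightAdjoint := (Over.mapPullbackAdj (Red.geomPt s)).isRightAdjoint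
  haveI : IsMonHom ((Over.pullback (Red.geomPt s)).mapIso e).hom :=
    inferInstanceAs (IsMonHom ((Over.pullback (Red.geomPt s)).map e.hom))
  exact isCartanOver_of_iso (hC.2.2.2 s) (Iso.refl _) ((Over.pullback (Red.geomPt s)).mapIso e) (by
    rw [Iso.refl_hom, Category.id_comp, Functor.map_comp, Functor.mapIso_hom])

set_option maxHeartbeats 2000000 in
/-- Cartan subgroups over the pieces of a disjoint union make one over the union. -/
theorem exists_cartan_sigma {κ : Type u} (E : κ → Scheme.{u}) {G : Over (∐ E)} [GrpObj G] [Smooth G.hom]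
    [IsSeparated G.hom] [QuasiCompact G.hom] (hconn : ∀ s, _root_.IsConnected (G.hom.base ⁻¹' {s}))
    (h : ∀ j, ∃ (C : Over (E j)) (_ : GrpObj C) (c : C ⟶ Red.bc (Sigma.ι E j) G), SGA3x.IsCartan c) :
    ∃ (C : Over (∐ E)) (_ : GrpObj C) (c : C ⟶ G), SGA3x.IsCartan c := by
  choose Cj iCj cj hcj using h
  haveI : ∀ j, Mono (cj j) := fun j => (hcj j).2.1
  haveI : ∀ j, Mono (cj j).left := fun j => Over.mono_left_of_mono _
  haveI : ∀ j, Smooth (Cj j).hom := fun j => (hcj j).2.2.1
  let M : Over (∐ E) := Over.mk (Limits.Sigma.map fun j => (Cj j).hom)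
  haveI : Smooth M.hom := DescLib.prop_sigmaMap @Smooth _ fun j => (hcj j).2.2.1
  let m : M ⟶ G := Over.homMk (Sigma.desc fun j => (cj j).left ≫ pullback.fst G.hom (Sigma.ι E j)) (by
    apply Sigma.hom_ext
    intro j
    rw [Sigma.ι_desc_assoc, Category.assoc, pullback.condition,
      show M.hom = Limits.Sigma.map fun j => (Cj j).hom from rfl, Sigma.ι_map, ← Category.assoc]
    exact congrArg (· ≫ Sigma.ι E j) (Over.w (cj j)))
  have hιm : ∀ j, Sigma.ι (fun j => (Cj j).left) j ≫ m.left = (cj j).left ≫ pullback.fst G.hom (Sigma.ι E j) :=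
    fun j => Sigma.ι_desc _ _
  have hsq : ∀ j, IsPullback (Sigma.ι (fun j => (Cj j).left) j) (cj j).left m.left (pullback.fst G.hom (Sigma.ι E j)) :=
    fun j => by
    refine IsPullback.of_bot ?_ (hιm j) (IsPullback.of_hasPullback G.hom (Sigma.ι E j))
    rw [show (cj j).left ≫ pullback.snd G.hom (Sigma.ι E j) = (Cj j).hom from Over.w (cj j),
      show m.left ≫ G.hom = Limits.Sigma.map fun j => (Cj j).hom from Over.w m]
    exact DescLib.isPullback_sigmaMap (fun j => (Cj j).hom) j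
  let 𝒰 : G.left.OpenCover := (sigmaOpenCover E).pullback₁ G.hom
  haveI : Mono m.left := by
    refine (IsZariskiLocalAtTarget.iff_of_openCover (P := MorphismProperty.monomorphisms Scheme.{u}) 𝒰).mpr fun j => ?_
    show Mono (pullback.snd m.left (pullback.fst G.hom (Sigma.ι E j)))
    rw [← (hsq j).isoPullback_inv_snd]
    infer_instance
  haveI : Mono m := Over.mono_of_mono_left _
  haveI : ∀ j, IsMonHom (cj j) := fun j => (hcj j).1
  have hM : ∀ (Y : Over (∐ E)) (g : Y ⟶ G),
      (∃ z, z ≫ m = g) ↔ ∀ j, ∃ l, l ≫ cj j = (Over.pullback (Sigma.ι E j)).map g := by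
    intro Y g
    constructor
    · rintro ⟨z, rfl⟩ j
      let O := pullback.fst G.hom (Sigma.ι E j)
      have e : (pullback.fst Y.hom (Sigma.ι E j) ≫ z.left) ≫ m.left =
          ((Over.pullback (Sigma.ι E j)).map (z ≫ m)).left ≫ O := by
        rw [Category.assoc, ← Over.comp_left, GrpLimLib.map_left_fst]
      refine ⟨Over.homMk ((hsq j).lift _ _ e) ?_, Over.OverMorphism.ext ((hsq j).lift_snd _ _ e)⟩
      rw [← Over.w (cj j), ← Category.assoc, (hsq j).lift_snd]
      exact Over.w _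
    · intro hl
      obtain ⟨l, hl'⟩ := TorusQI.exists_fac_of_openCover m.left g.left ((sigmaOpenCover E).pullback₁ Y.hom) fun j => by
        obtain ⟨l, hl⟩ := hl j
        refine ⟨l.left ≫ Sigma.ι (fun j => (Cj j).left) j, ?_⟩
        rw [Category.assoc, hιm, ← Category.assoc, ← Over.comp_left, hl, GrpLimLib.map_left_fst]
        rfl
      exact ⟨Over.homMk l (by rw [← Over.w m, reassoc_of% hl', Over.w g]), Over.OverMorphism.ext hl'⟩
  haveI : ∀ j, (Over.pullback (Sigma.ι E j)).IsRightAdjoint := fun j => (Over.mapPullbackAdj _).isRightAdjoint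
  obtain ⟨_, hm⟩ := exists_grp m (fun {Y} g => ∀ j, ∃ l, l ≫ cj j = (Over.pullback (Sigma.ι E j)).map g) hM
    (fun Y j => ⟨1, by rw [Functor.map_one, MonObj.one_comp]⟩)
    (fun ha hb j => by
      obtain ⟨l, hl⟩ := ha j
      obtain ⟨l', hl'⟩ := hb j
      exact ⟨l * l', by rw [Functor.map_mul, MonObj.mul_comp, hl, hl']⟩)
    (fun {Y a} ha j => by
      obtain ⟨l, hl⟩ := ha j
      exact ⟨l⁻¹, by
        rw [GrpObj.inv_comp, hl]
        refine inv_eq_of_mul_eq_one_right ?_
        rw [← Functor.map_mul, mul_inv_cancel, Functor.map_one]⟩)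
  haveI := hm
  -- the pieces
  have hpieces : ∀ j, ∃ φ : Red.bc (Sigma.ι E j) M ≅ Cj j,
      φ.hom ≫ cj j = (Over.pullback (Sigma.ι E j)).map m := by
    intro j
    obtain ⟨a, ha⟩ := (hM _ m).mp ⟨𝟙 _, Category.id_comp _⟩ j
    have e : ((Sigma.ι (fun j => (Cj j).left) j) ≫ M.hom) = (Cj j).hom ≫ Sigma.ι E j :=
      Sigma.ι_map (fun j => (Cj j).hom) j
    let b : Cj j ⟶ Red.bc (Sigma.ι E j) M := Over.homMk (pullback.lift _ _ e) (pullback.lift_snd _ _ _)
    have hb : b ≫ (Over.pullback (Sigma.ι E j)).map m = cj j := by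
      apply Over.OverMorphism.ext
      rw [← cancel_mono (pullback.fst G.hom (Sigma.ι E j)), Over.comp_left, Category.assoc, GrpLimLib.map_left_fst,
        ← Category.assoc]
      exact (congrArg (· ≫ m.left) (pullback.lift_fst _ _ e)).trans (hιm j)
    exact ⟨⟨a, b, by rw [← cancel_mono ((Over.pullback (Sigma.ι E j)).map m), Category.assoc, hb, ha, Category.id_comp],
      by rw [← cancel_mono (cj j), Category.assoc, ha, hb, Category.id_comp]⟩, ha⟩
  choose φ hφ using hpieces
  have hex : ∀ s : ↥(∐ E), ∃ (j : κ) (y : E j), Sigma.ι E j y = s := fun s => (sigmaOpenCover E).exists_eq s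
  have hMconn : ∀ s : ↥(∐ E), _root_.IsConnected (M.hom.base ⁻¹' {s}) := by
    intro s
    obtain ⟨j, y, rfl⟩ := hex s
    haveI : Smooth (Red.bc (Sigma.ι E j) G).hom := inferInstanceAs (Smooth (pullback.snd G.hom _))
    haveI : QuasiCompact (Red.bc (Sigma.ι E j) G).hom := inferInstanceAs (QuasiCompact (pullback.snd G.hom _))
    have h1 := (connected_cartan (RedCentre.isConnected_fibre_bc (Sigma.ι E j) G hconn) (hcj j) y).image
      (Sigma.ι (fun j => (Cj j).left) j) (Sigma.ι (fun j => (Cj j).left) j).continuous.continuousOn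
    refine (congrArg _root_.IsConnected (?_ : (M.hom ⁻¹' {Sigma.ι E j y} : Set ↥(∐ fun j => (Cj j).left)) = _)).mpr h1
    ext x
    constructor
    · intro hx
      obtain ⟨k, x', rfl⟩ := (sigmaOpenCover fun j => (Cj j).left).exists_eq x
      have e2 : Sigma.ι E k ((Cj k).hom x') = Sigma.ι E j y := by
        refine Eq.trans ?_ hx
        exact congrArg (fun ψ : (Cj k).left ⟶ ∐ E => ψ x') (Sigma.ι_map (fun j => (Cj j).hom) k).symm
      obtain rfl := (Sigma.mk.inj_iff.1 ((sigmaι_eq_iff _ _ _ _ _).1 e2)).1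
      exact ⟨x', (Sigma.ι E k).isOpenEmbedding.injective e2, rfl⟩
    · rintro ⟨x', hx', rfl⟩
      show M.hom (Sigma.ι (fun j => (Cj j).left) j x') = _
      exact (congrArg (fun ψ : (Cj j).left ⟶ ∐ E => ψ x') (Sigma.ι_map (fun j => (Cj j).hom) j)).trans
        ((Scheme.Hom.comp_apply _ _ _).trans (congrArg (Sigma.ι E j) hx'))
  haveI : QuasiCompact M.hom := (S3025.result _ M hMconn).2
  refine ⟨M, inferInstance, m, inferInstance, inferInstance, inferInstance, fun s => ?_⟩
  obtain ⟨j, y, rfl⟩ := hex s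
  refine (cartanOver_bc_iff hMconn m (Sigma.ι E j) y).mp ?_
  let q := Red.geomPt y
  haveI : (Over.pullback q).IsRightAdjoint := (Over.mapPullbackAdj q).isRightAdjoint
  haveI : IsMonHom (Iso.refl (Red.bc q (Red.bc (Sigma.ι E j) G))).hom :=
    inferInstanceAs (IsMonHom (𝟙 (Red.bc q (Red.bc (Sigma.ι E j) G))))
  exact isCartanOver_of_iso ((hcj j).2.2.2 y) ((Over.pullback q).mapIso (φ j).symm) (Iso.refl _) (by
    rw [Iso.refl_hom, Category.comp_id, Functor.mapIso_hom, Iso.symm_hom, ← hφ, Functor.map_comp, ← Functor.map_comp_assoc,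
      Iso.inv_hom_id, CategoryTheory.Functor.map_id, Category.id_comp])

set_option maxHeartbeats 2000000 in
/-- A smooth neighbourhood of a point over which there is a Cartan subgroup. -/
theorem exists_cartan_piece {G : Over S} [GrpObj G] [Smooth G.hom] [IsSeparated G.hom] [QuasiCompact G.hom]
    (hconn : ∀ s : S, _root_.IsConnected (G.hom.base ⁻¹' {s})) (f : S' ⟶ S) [Flat f] [Surjective f]
    (hf : ∀ V : S.Opens, IsAffineOpen V → ∃ W : S'.Opens, IsCompact (W : Set S') ∧ f.base '' (W : Set S') = (V : Set S))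
    {C' : Over S'} [GrpObj C'] {c' : C' ⟶ Red.bc f G} (hC' : SGA3x.IsCartan c') (s : S) :
    ∃ (X : Over S) (W : X.left.Opens), Smooth X.hom ∧ (∃ x ∈ W, X.hom x = s) ∧
      ∃ (C : Over (W : Scheme.{u})) (_ : GrpObj C) (c : C ⟶ Red.bc W.ι (Red.bc X.hom G)), SGA3x.IsCartan c := by
  let b := Red.geomPt s
  let k := AlgebraicClosure (S.residueField s)
  haveI : (Over.pullback b).IsRightAdjoint := (Over.mapPullbackAdj b).isRightAdjoint
  obtain ⟨U, q, hsU, hq, hqU, hqs⟩ := exists_prime_open s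
  haveI : Smooth (Red.geomFibre s G).hom := inferInstanceAs (Smooth (pullback.snd G.hom b))
  haveI : IsSeparated (Red.geomFibre s G).hom := inferInstanceAs (IsSeparated (pullback.snd G.hom b))
  haveI : QuasiCompact (Red.geomFibre s G).hom := inferInstanceAs (QuasiCompact (pullback.snd G.hom b))
  haveI := FixTorus.connectedSpace_geomFibre s (hconn s)
  obtain ⟨T, _, tT, htT⟩ := NonAffine.exists_maxTorus (G := Red.geomFibre s G)
  have htT' := NonAffine.isMaximalTorus_of_isMaxTorus htT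
  haveI := htT'.1
  obtain ⟨C₀, _, c₀, hc₀, -, hC₀s⟩ := MaxTorCent.exists_centralizer tT (TorusQI.isMultTypeFT_of_isTorus htT'.2.2.1)
  haveI := hc₀.1; haveI := hc₀.2.1; haveI := hC₀s
  have hcart : SGA3x.IsCartanOver k c₀ := ⟨hc₀.1, hc₀.2.1, T, inferInstance, tT, htT', hc₀⟩
  haveI : ConnectedSpace ↥C₀.left := (NonAffine.smooth_connected_centralizer tT htT'.2.2.1 hc₀).2
  obtain ⟨n, hn0, ⟨m, hnm⟩, r, y₀, hadd₀, hy₀, hy₀'⟩ := exists_torsion_tuple c₀
    (𝟙 C₀) (by rw [Category.id_comp]; exact hcart) q hq hqs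
  haveI := hn0
  let z₀ := fun v => y₀ v ≫ c₀
  have hnU : IsUnit (n : Γ((U : Scheme.{u}), ⊤)) := by rw [hnm, Nat.cast_pow]; exact hqU.pow m
  haveI : Smooth (Red.bc U.ι G).hom := inferInstanceAs (Smooth (pullback.snd G.hom U.ι))
  haveI : IsSeparated (Red.bc U.ι G).hom := inferInstanceAs (IsSeparated (pullback.snd G.hom U.ι))
  obtain ⟨𝓧, xU, h𝓧, -, hx0, hxadd, hxuniv⟩ := exists_homScheme_lft (G := Red.bc U.ι G) hnU r
  haveI := h𝓧
  let X : Over S := (Over.map U.ι).obj 𝓧
  haveI : Smooth X.hom := inferInstanceAs (Smooth (𝓧.hom ≫ U.ι))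
  let xS : (Fin r → ZMod n) → (X ⟶ G) := fun v => DSPtsLib.theta U.ι (xU v)
  -- the point over `s`
  have hsr : Set.range b ⊆ Set.range U.ι := by
    rw [Scheme.Opens.range_ι]
    rintro _ ⟨pt, rfl⟩
    show b pt ∈ U
    rw [show b pt = s from Scheme.fromSpecResidueField_apply s _]
    exact hsU
  let b' := IsOpenImmersion.lift U.ι b hsr
  have hb' : b' ≫ U.ι = b := IsOpenImmersion.lift_fac _ _ _
  let A : Over S := (Over.map b).obj (𝟙_ (Over (Spec (CommRingCat.of k))))
  let A' : Over (U : Scheme.{u}) := Over.mk b'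
  let j : (Over.map U.ι).obj A' ⟶ A := Over.homMk (𝟙 _) (by
    show 𝟙 _ ≫ 𝟙 _ ≫ b = b' ≫ U.ι
    rw [hb', Category.id_comp, Category.id_comp])
  let j' : A ⟶ (Over.map U.ι).obj A' := Over.homMk (𝟙 _) (by
    show 𝟙 _ ≫ b' ≫ U.ι = 𝟙 _ ≫ b
    rw [hb'])
  have hjj : j' ≫ j = 𝟙 A := Over.OverMorphism.ext (Category.comp_id _)
  choose fA hfA using fun v => (DSPtsLib.theta_bijective (g := U.ι) (Y := A') (H := G)).2
    (j ≫ DSPtsLib.theta b (z₀ v))
  obtain ⟨L, hL⟩ := hxuniv A' fA fun v v' => (DSPtsLib.theta_bijective U.ι).1 (by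
    simp only [z₀] at hfA ⊢
    rw [DSPtsLib.theta_mul, hfA, hfA, hfA, hadd₀, MonObj.mul_comp, DSPtsLib.theta_mul, MonObj.comp_mul])
  let a : A ⟶ X := j' ≫ (Over.map U.ι).map L
  have hax : ∀ v, a ≫ xS v = DSPtsLib.theta b (z₀ v) := fun v => by
    simp only [a, xS, Category.assoc, ← DSPtsLib.theta_comp, hL, hfA, reassoc_of% hjj]
  -- over the space of tuples
  let h := X.hom
  haveI : (Over.pullback h).IsRightAdjoint := (Over.mapPullbackAdj h).isRightAdjoint
  haveI : Smooth (Red.bc h G).hom := inferInstanceAs (Smooth (pullback.snd G.hom h))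
  haveI : IsSeparated (Red.bc h G).hom := inferInstanceAs (IsSeparated (pullback.snd G.hom h))
  haveI : QuasiCompact (Red.bc h G).hom := inferInstanceAs (QuasiCompact (pullback.snd G.hom h))
  let E : (Over.map h).obj (𝟙_ (Over X.left)) ⟶ X := Over.homMk (𝟙 _) rfl
  choose x' hx' using fun v => (DSPtsLib.theta_bijective (g := h) (Y := 𝟙_ (Over X.left)) (H := G)).2 (E ≫ xS v)
  have hx'add : ∀ v v', x' (v + v') = x' v * x' v' := fun v v' => (DSPtsLib.theta_bijective h).1 (by
    simp only [DSPtsLib.theta_mul, hx', xS, hxadd, MonObj.comp_mul])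
  have hnX : IsUnit (n : Γ(X.left, ⊤)) := by
    rw [← map_natCast 𝓧.hom.appTop.hom]
    exact hnU.map _
  have h0 : x' 0 = 1 := mul_eq_left.mp (show x' 0 * x' 0 = x' 0 by rw [← hx'add, add_zero])
  obtain ⟨hxn, hxc⟩ := tuple_props x' h0 hx'add
  obtain ⟨Z, _, jZ, hjZ, hjZc, hZs, hZ⟩ := exists_cent hnX x' hxn hxc
  haveI := hjZ; haveI := hjZc; haveI := hZs
  haveI : Mono jZ := haveI : Mono jZ.left := inferInstance; Over.mono_of_mono_left _
  obtain ⟨-, Z0, _, i0, hi0, hi0o, hi0r, hZ0s, hZ0q⟩ :=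
    Groth.Agent.S4098.result X.left Z ⟨⊤, inferInstance, fun _ => trivial⟩
  haveI := hi0; haveI := hi0o; haveI := hZ0s; haveI := hZ0q
  haveI : Mono i0 := haveI : Mono i0.left := inferInstance; Over.mono_of_mono_left _
  have hZ0conn : ∀ y, _root_.IsConnected (Z0.hom.base ⁻¹' {y}) := fun y => by
    have e : i0.left '' (Z0.hom ⁻¹' {y}) = connectedComponentIn (Z.hom ⁻¹' {y}) (Neutral.unit Z y) := by
      rw [← GeomIrrSpread.neutralSet_inter_fibre, ← hi0r]
      ext x
      constructor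
      · rintro ⟨x', hx', rfl⟩
        refine ⟨⟨x', rfl⟩, ?_⟩
        show Z.hom (i0.left x') = y
        rw [← Scheme.Hom.comp_apply, Over.w i0]
        exact hx'
      · rintro ⟨⟨x', rfl⟩, hx⟩
        refine ⟨x', ?_, rfl⟩
        show Z0.hom x' = y
        rw [← Over.w i0, Scheme.Hom.comp_apply]
        exact hx
    have hc : _root_.IsConnected (i0.left '' (Z0.hom ⁻¹' {y})) := by
      rw [e]
      exact isConnected_connectedComponentIn_iff.2 (Neutral.hom_unit Z y)
    exact ⟨Set.image_nonempty.1 hc.nonempty, i0.left.isOpenEmbedding.isInducing.isPreconnected_image.1 hc.isPreconnected⟩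
  let z := i0 ≫ jZ
  -- the fibre at the chosen point
  let α : Spec (CommRingCat.of k) ⟶ X.left := a.left
  haveI : (Over.pullback α).IsRightAdjoint := (Over.mapPullbackAdj α).isRightAdjoint
  have hα : α ≫ h = b := (Over.w a).trans (Category.id_comp b)
  let e := cmp hα G
  haveI := isMonHom_cmp_hom hα G
  have hsec : ∀ v, bcSec α (x' v) ≫ e.hom = z₀ v := fun v => theta_left_ext b (by
    have h1 : (DSPtsLib.theta α (bcSec α (x' v))).left ≫ pullback.fst G.hom h = α ≫ (xS v).left := by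
      rw [theta_bcSec_unit, Over.comp_left, Category.assoc]
      have hh : (x' v).left ≫ pullback.fst G.hom h = (xS v).left :=
        (congrArg CommaMorphism.left (hx' v)).trans (Category.id_comp _)
      have ht : (toUnit ((Over.map α).obj (𝟙_ (Over (Spec (CommRingCat.of k)))))).left = 𝟙 _ ≫ α := rfl
      rw [hh, ht, Category.id_comp]
    rw [theta_left_cmp hα]
    exact h1.trans (congrArg CommaMorphism.left (hax v)))
  have hcent : ∀ (Y : Over (Spec (CommRingCat.of k))) (g : Y ⟶ Red.bc α (Red.bc h G)),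
      (∃ l, l ≫ (Over.pullback α).map jZ = g) ↔
        ∀ v, (g ≫ e.hom) * (toUnit Y ≫ z₀ v) = (toUnit Y ≫ z₀ v) * (g ≫ e.hom) := fun Y g => by
    rw [cent_bc α jZ x' hZ Y g]
    exact forall_congr' fun v => by
      rw [← hsec v, ← Category.assoc (toUnit Y), ← MonObj.mul_comp, ← MonObj.mul_comp, cancel_mono]
  obtain ⟨φ₁, hφ₁⟩ := (hcent C₀ (c₀ ≫ e.inv)).mpr fun v => by
    rw [Category.assoc, Iso.inv_hom_id, Category.comp_id]
    simpa only [Category.id_comp] using hy₀' C₀ (𝟙 C₀) v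
  obtain ⟨ψ₁, hψ₁⟩ := hy₀ _ ((Over.pullback α).map jZ ≫ e.hom) fun v =>
    (hcent _ ((Over.pullback α).map jZ)).mp ⟨𝟙 _, Category.id_comp _⟩ v
  let eZ : C₀ ≅ Red.bc α Z := ⟨φ₁, ψ₁, by
    rw [← cancel_mono c₀, Category.assoc, hψ₁, reassoc_of% hφ₁, Iso.inv_hom_id, Category.comp_id, Category.id_comp], by
    rw [← cancel_mono ((Over.pullback α).map jZ), Category.assoc, hφ₁, reassoc_of% hψ₁, Iso.hom_inv_id,
      Category.comp_id, Category.id_comp]⟩
  haveI : IsIso φ₁ := eZ.isIso_hom
  haveI : IsIso φ₁.left := inferInstanceAs (IsIso ((Over.forget _).map φ₁))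
  haveI : ConnectedSpace ↥(Red.bc α Z).left :=
    φ₁.left.homeomorph.surjective.connectedSpace φ₁.left.homeomorph.continuous
  haveI : IsOpenImmersion ((Over.pullback α).map i0).left :=
    MorphismProperty.of_isPullback (P := @IsOpenImmersion) (MultTypeLib.FreeAction.isPullback_map α i0) hi0o
  haveI : Surjective ((Over.pullback α).map i0).left := by
    refine ⟨fun x => (Neutral.openSubgroup (Red.bc α Z) (Red.bc α Z0) ((Over.pullback α).map i0)).1 ?_⟩
    rw [Neutral.neutralSet_eq_univ]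
    · trivial
    intro t
    haveI : Subsingleton ↥(Spec (CommRingCat.of k)) := inferInstanceAs (Subsingleton (PrimeSpectrum k))
    rw [show (Red.bc α Z).hom ⁻¹' {t} = Set.univ from Set.eq_univ_of_forall fun _ => Subsingleton.elim _ _]
    exact isPreconnected_univ
  haveI : IsIso ((Over.pullback α).map i0).left :=
    (isIso_iff_isOpenImmersion_and_surjective _).mpr ⟨inferInstance, inferInstance⟩
  haveI : IsIso ((Over.forget _).map ((Over.pullback α).map i0)) := ‹IsIso ((Over.pullback α).map i0).left›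
  haveI : IsIso ((Over.pullback α).map i0) := isIso_of_reflects_iso _ (Over.forget _)
  have hα' : SGA3x.IsCartanOver k ((Over.pullback α).map z) := by
    haveI : IsMonHom e.symm.hom := inferInstanceAs (IsMonHom e.inv)
    refine isCartanOver_of_iso hcart (eZ ≪≫ (asIso ((Over.pullback α).map i0)).symm) e.symm ?_
    simp only [Iso.trans_hom, Iso.symm_hom, asIso_inv, z, Functor.map_comp, Category.assoc, IsIso.inv_hom_id_assoc]
    exact hφ₁
  -- the open locus
  obtain ⟨hcc, -⟩ : IsOpen {y : X.left | SGA3x.IsCartanOver (AlgebraicClosure (X.left.residueField y))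
      ((Over.pullback (Red.geomPt y)).map z)} ∧ True := by
    refine ⟨?_, trivial⟩
    let p₁ := pullback.fst h f
    let p₂ := pullback.snd h f
    have hcov : FpqcDescLib.IsCovering p₁ :=
      (FpqcDescLib.isCovering_of_flat f hf).pullback h p₁ p₂ (IsPullback.of_hasPullback h f)
    haveI : (Over.pullback p₁).IsRightAdjoint := (Over.mapPullbackAdj p₁).isRightAdjoint
    haveI : (Over.pullback p₂).IsRightAdjoint := (Over.mapPullbackAdj p₂).isRightAdjoint
    haveI : Smooth (Red.bc f G).hom := inferInstanceAs (Smooth (pullback.snd G.hom f))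
    haveI : IsSeparated (Red.bc f G).hom := inferInstanceAs (IsSeparated (pullback.snd G.hom f))
    haveI : QuasiCompact (Red.bc f G).hom := inferInstanceAs (QuasiCompact (pullback.snd G.hom f))
    haveI := isMonHom_cmp_hom (rfl : p₂ ≫ f = _) G
    haveI := isMonHom_cmp_hom (pullback.condition : p₁ ≫ h = p₂ ≫ f) G
    haveI : IsMonHom (cmp (rfl : p₂ ≫ f = _) G ≪≫ (cmp (pullback.condition : p₁ ≫ h = p₂ ≫ f) G).symm).hom :=
      inferInstanceAs (IsMonHom ((cmp (rfl : p₂ ≫ f = _) G).hom ≫ (cmp (pullback.condition : p₁ ≫ h = p₂ ≫ f) G).inv))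
    exact isOpen_cartan_locus_cover (RedCentre.isConnected_fibre_bc h G hconn) hZ0conn z p₁
      (fun V hV => hcov.exists_compact hV)
      (isCartan_comp_iso (isCartan_bc hC' p₂)
        (cmp (rfl : p₂ ≫ f = _) G ≪≫ (cmp (pullback.condition : p₁ ≫ h = p₂ ≫ f) G).symm))
  let W : X.left.Opens := ⟨_, hcc⟩
  haveI : (Over.pullback W.ι).IsRightAdjoint := (Over.mapPullbackAdj W.ι).isRightAdjoint
  refine ⟨X, W, inferInstance, ⟨α (IsLocalRing.closedPoint k), ?_, ?_⟩, Red.bc W.ι Z0, inferInstance,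
    (Over.pullback W.ι).map z, inferInstance, inferInstance, inferInstanceAs (Smooth (pullback.snd Z0.hom W.ι)),
    fun y => (cartanOver_bc_iff hZ0conn z W.ι y).mpr y.2⟩
  · exact (cartanOver_iff_point hZ0conn z α _ rfl).mp hα'
  · rw [← Scheme.Hom.comp_apply, hα]
    exact Scheme.fromSpecResidueField_apply s _

set_option maxHeartbeats 2000000 in
/-- Cartan subgroups existing fpqc locally exist étale locally. -/
theorem exists_cartan_etale {G : Over S} [GrpObj G] [Smooth G.hom] [IsSeparated G.hom] [QuasiCompact G.hom]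
    (hconn : ∀ s : S, _root_.IsConnected (G.hom.base ⁻¹' {s})) (f : S' ⟶ S) [Flat f] [Surjective f]
    (hf : ∀ V : S.Opens, IsAffineOpen V → ∃ W : S'.Opens, IsCompact (W : Set S') ∧ f.base '' (W : Set S') = (V : Set S))
    {C' : Over S'} [GrpObj C'] {c' : C' ⟶ Red.bc f G} (hC' : SGA3x.IsCartan c') :
    ∃ (S₁ : Scheme.{u}) (g : S₁ ⟶ S), Etale g ∧ Surjective g ∧
      ∃ (C : Over S₁) (_ : GrpObj C) (c : C ⟶ Red.bc g G), SGA3x.IsCartan c := by
  choose X W hXs hxW Cs iCs cs hcs using exists_cartan_piece hconn f hf hC'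
  have hsm : ∀ s, Smooth ((W s).ι ≫ (X s).hom) := fun s => haveI := hXs s; inferInstance
  have hsec : ∀ s, ∃ (E : Scheme.{u}) (g : E ⟶ S) (s' : E), Etale g ∧ g s' = s ∧
      ∃ h : E ⟶ (W s : Scheme.{u}), h ≫ (W s).ι ≫ (X s).hom = g := fun s => by
    haveI := hsm s
    obtain ⟨x, hx, hxs⟩ := hxW s
    exact Groth.Agent.S0412.result ((W s).ι ≫ (X s).hom) s ⟨⟨x, hx⟩, (Scheme.Hom.comp_apply _ _ _).trans hxs⟩
  choose E g s' hg hgs hh hhg using hsec
  haveI : ∀ s, Etale (g s) := hg
  let F : (∐ E) ⟶ S := Sigma.desc g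
  haveI : Etale F := IsZariskiLocalAtSource.sigmaDesc (P := @Etale) hg
  haveI : Surjective F := ⟨fun s => ⟨Sigma.ι E s (s' s), by rw [← Scheme.Hom.comp_apply, Sigma.ι_desc]; exact hgs s⟩⟩
  haveI : Smooth (Red.bc F G).hom := inferInstanceAs (Smooth (pullback.snd G.hom F))
  haveI : IsSeparated (Red.bc F G).hom := inferInstanceAs (IsSeparated (pullback.snd G.hom F))
  haveI : QuasiCompact (Red.bc F G).hom := inferInstanceAs (QuasiCompact (pullback.snd G.hom F))
  refine ⟨∐ E, F, inferInstance, inferInstance,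
    exists_cartan_sigma E (RedCentre.isConnected_fibre_bc F G hconn) fun j => ?_⟩
  let h₁ := (X j).hom
  let h₂ := (W j).ι
  haveI : (Over.pullback h₁).IsRightAdjoint := (Over.mapPullbackAdj h₁).isRightAdjoint
  haveI : (Over.pullback h₂).IsRightAdjoint := (Over.mapPullbackAdj h₂).isRightAdjoint
  haveI : (Over.pullback (hh j)).IsRightAdjoint := (Over.mapPullbackAdj (hh j)).isRightAdjoint
  haveI : Smooth (Red.bc h₁ G).hom := inferInstanceAs (Smooth (pullback.snd G.hom h₁))
  haveI : IsSeparated (Red.bc h₁ G).hom := inferInstanceAs (IsSeparated (pullback.snd G.hom h₁))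
  haveI : QuasiCompact (Red.bc h₁ G).hom := inferInstanceAs (QuasiCompact (pullback.snd G.hom h₁))
  haveI : Smooth (Red.bc h₂ (Red.bc h₁ G)).hom := inferInstanceAs (Smooth (pullback.snd (Red.bc h₁ G).hom h₂))
  haveI : IsSeparated (Red.bc h₂ (Red.bc h₁ G)).hom := inferInstanceAs (IsSeparated (pullback.snd (Red.bc h₁ G).hom h₂))
  haveI : QuasiCompact (Red.bc h₂ (Red.bc h₁ G)).hom :=
    inferInstanceAs (QuasiCompact (pullback.snd (Red.bc h₁ G).hom h₂))
  have e₁ : (hh j ≫ h₂) ≫ h₁ = Sigma.ι E j ≫ F := by rw [Category.assoc, hhg j, Sigma.ι_desc]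
  haveI := isMonHom_cmp_hom (rfl : hh j ≫ h₂ = _) (Red.bc h₁ G)
  haveI := isMonHom_cmp_hom e₁ G
  haveI := isMonHom_cmp_hom (rfl : Sigma.ι E j ≫ F = _) G
  let eG := cmp (rfl : hh j ≫ h₂ = _) (Red.bc h₁ G) ≪≫ cmp e₁ G ≪≫ (cmp (rfl : Sigma.ι E j ≫ F = _) G).symm
  haveI : IsMonHom eG.hom := inferInstanceAs (IsMonHom ((cmp (rfl : hh j ≫ h₂ = _) (Red.bc h₁ G)).hom ≫
    (cmp e₁ G).hom ≫ (cmp (rfl : Sigma.ι E j ≫ F = _) G).inv))
  exact ⟨Red.bc (hh j) (Cs j), inferInstance, _, isCartan_comp_iso (isCartan_bc (hcs j) (hh j)) eG⟩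

end Groth.Agent.CartanIn
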