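import Groth.Agent.CartanIn.Main
import Groth.Agent.MaxTorTransp.Descend
import Groth.Agent.TorsionCent.Central

/-!
# Maximal tori and Cartan subgroups of a subgroup containing a Cartan subgroup
-/

set_option backward.isDefEq.respectTransparency false
set_option backward.isDefEq.respectTransparency.types false
set_option linter.style.haveILetI false
set_option autoImplicit false
set_option maxHeartbeats 1000000
set_option synthInstance.maxHeartbeats 200000

universe u

open CategoryTheory Limits MonoidalCategory CartesianMonoidalCategory MonObj AlgebraicGeometry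

namespace Groth.Agent.CartanIn

open GrpSchLib GrpLimLib TorsionCent AGFLib MaxTorTransp

/-- Maximal tori are invariant under an isomorphism of the torus. -/
theorem isMaximalTorus_iso_comp {S : Scheme.{u}} {G T T' : Over S} [GrpObj G] [GrpObj T] [GrpObj T'] (e : T' ⟶ T)
    [IsMonHom e] [IsIso e] (hT' : Red.IsTorus T') {i : T ⟶ G} (h : Red.IsMaximalTorus i) :
    Red.IsMaximalTorus (e ≫ i) := by
  haveI := h.1; haveI := h.2.1
  refine ⟨inferInstance, inferInstance, hT', fun s U _ j _ _ f hU hf => ?_⟩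
  haveI : IsIso ((Over.pullback (Red.geomPt s)).map e) := inferInstance
  haveI := h.2.2.2 s U j (inv ((Over.pullback (Red.geomPt s)).map e) ≫ f) hU (by
    rw [Category.assoc, hf, Functor.map_comp, IsIso.inv_hom_id_assoc])
  exact IsIso.of_isIso_comp_left (inv ((Over.pullback (Red.geomPt s)).map e)) f

section Field

variable {k : Type u} [Field k] [IsAlgClosed k]
variable {G H C' : Over (Spec (CommRingCat.of k))} [GrpObj G] [GrpObj H] [GrpObj C'] [Smooth G.hom] [QuasiCompact G.hom]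
  [Smooth H.hom] [QuasiCompact H.hom] (i : H ⟶ G) [IsMonHom i] [Mono i]

omit [IsAlgClosed k] [Smooth G.hom] [QuasiCompact G.hom] [Smooth H.hom] [QuasiCompact H.hom] in
/-- A maximal torus of the big group inside the subgroup. -/
theorem exists_torus_in {c' : C' ⟶ H} (hC : SGA3x.IsCartanOver k (c' ≫ i)) :
    ∃ (T : Over (Spec (CommRingCat.of k))) (_ : GrpObj T) (t : T ⟶ H), Red.IsMaximalTorus (t ≫ i) ∧
      ∀ (X : Over (Spec (CommRingCat.of k))) (g : X ⟶ G),
        (∀ (X' : Over (Spec (CommRingCat.of k))) (x : X' ⟶ X) (a : X' ⟶ T),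
          (x ≫ g) * (a ≫ t ≫ i) = (a ≫ t ≫ i) * (x ≫ g)) → ∃ h, h ≫ i = g := by
  obtain ⟨hcm, hcmono, T, _, iT, hT, hC⟩ := hC
  haveI := hT.1; haveI := hT.2.1
  obtain ⟨l, hl⟩ := (hC.2.2 T iT).mpr fun X' a h => by
    rw [← MonObj.mul_comp, ← MonObj.mul_comp,
      GrpSchLib.MultTypeComm.points_comm (TorusQI.isMultTypeFT_of_isTorus hT.2.2.1) a h]
  have e : (l ≫ c') ≫ i = iT := by rw [Category.assoc]; exact hl
  refine ⟨T, inferInstance, l ≫ c', e.symm ▸ hT, fun X g hg => ?_⟩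
  rw [e] at hg
  obtain ⟨w, hw⟩ := (hC.2.2 X g).mpr hg
  exact ⟨w ≫ c', by rw [Category.assoc]; exact hw⟩

/-- A maximal torus of a subgroup containing a Cartan subgroup is one of the group, and its centraliser lies in the
subgroup. -/
theorem maxTorus_comp {c' : C' ⟶ H} (hC : SGA3x.IsCartanOver k (c' ≫ i)) {T : Over (Spec (CommRingCat.of k))} [GrpObj T]
    {t : T ⟶ H} (ht : Red.IsMaximalTorus t) :
    Red.IsMaximalTorus (t ≫ i) ∧
      ∀ (X : Over (Spec (CommRingCat.of k))) (g : X ⟶ G),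
        (∀ (X' : Over (Spec (CommRingCat.of k))) (x : X' ⟶ X) (a : X' ⟶ T),
          (x ≫ g) * (a ≫ t ≫ i) = (a ≫ t ≫ i) * (x ≫ g)) → ∃ h, h ≫ i = g := by
  haveI := ht.1; haveI := ht.2.1
  obtain ⟨T₀, _, t₀, h₀, hfac⟩ := exists_torus_in i hC
  have ht₀ := TorsionCent.isMaximalTorus_of_comp t₀ i h₀
  haveI := ht₀.1; haveI := ht₀.2.1
  obtain ⟨g, φ, hφ⟩ := exists_conj_maxTorus (SolvGrp.isMaxTorus_of_isMaximalTorus ht₀)
    (SolvGrp.isMaxTorus_of_isMaximalTorus ht)
  replace hφ : φ.hom ≫ t = t₀ ≫ MaxTorCent.conjEnd g := by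
    rw [hφ, MaxTorCent.comp_conjEnd]
  haveI : IsMonHom φ.hom := MaxTorusBC.isMonHom_of_mono φ.hom t (by rw [hφ]; infer_instance)
  haveI : IsMonHom φ.inv := AGFLib.isMonHom_of_mul _ fun X a b => by
    rw [← cancel_mono φ.hom, MonObj.mul_comp (a ≫ _), Category.assoc, Category.assoc, Category.assoc, Iso.inv_hom_id,
      Category.comp_id, Category.comp_id, Category.comp_id]
  have key : φ.hom ≫ t ≫ i = (t₀ ≫ i) ≫ MaxTorCent.conjEnd (g ≫ i) := by
    rw [← Category.assoc, hφ, MaxTorCent.comp_conjEnd, MaxTorCent.comp_conjEnd, MonObj.mul_comp, MonObj.mul_comp,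
      GrpObj.inv_comp, Category.assoc (toUnit T₀)]
  refine ⟨?_, fun X g₁ hg₁ => ?_⟩
  · rw [show t ≫ i = φ.inv ≫ (t₀ ≫ i) ≫ MaxTorCent.conjEnd (g ≫ i) by rw [← key, Iso.inv_hom_id_assoc]]
    haveI := h₀.1
    exact isMaximalTorus_iso_comp φ.inv ht.2.2.1 (MaxTorCent.isMaximalTorus_comp_iso h₀ _)
  · obtain ⟨h, hh⟩ := hfac X ((toUnit X ≫ g ≫ i)⁻¹ * g₁ * (toUnit X ≫ g ≫ i)) fun X' x a => by
      have h1 := hg₁ X' x (a ≫ φ.hom)
      rw [Category.assoc a, key, ← Category.assoc a, MaxTorCent.comp_conjEnd] at h1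
      simp only [MonObj.comp_mul, GrpObj.comp_inv, ← Category.assoc x, toUnit_unique (x ≫ toUnit X) (toUnit X')]
      generalize toUnit X' ≫ g ≫ i = γ₀ at h1 ⊢
      generalize a ≫ t₀ ≫ i = A at h1 ⊢
      generalize x ≫ g₁ = B at h1 ⊢
      calc γ₀⁻¹ * B * γ₀ * A = γ₀⁻¹ * (B * (γ₀ * A * γ₀⁻¹)) * γ₀ := by group
        _ = γ₀⁻¹ * (γ₀ * A * γ₀⁻¹ * B) * γ₀ := by rw [h1]
        _ = A * (γ₀⁻¹ * B * γ₀) := by group
    refine ⟨(toUnit X ≫ g) * h * (toUnit X ≫ g)⁻¹, ?_⟩
    rw [MonObj.mul_comp, MonObj.mul_comp, GrpObj.inv_comp, hh, Category.assoc]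
    group

/-- Cartan subgroups of the subgroup are the Cartan subgroups of the group contained in it. -/
theorem isCartanOver_iff {c' : C' ⟶ H} (hC : SGA3x.IsCartanOver k (c' ≫ i))
    {C : Over (Spec (CommRingCat.of k))} [GrpObj C] (c : C ⟶ H) :
    SGA3x.IsCartanOver k c ↔ SGA3x.IsCartanOver k (c ≫ i) := by
  constructor
  · rintro ⟨hc1, hc2, T, _, t, ht, hcent⟩
    haveI := hc1; haveI := hc2
    obtain ⟨hmax, hfac⟩ := maxTorus_comp i hC ht
    refine ⟨inferInstance, inferInstance, T, inferInstance, t ≫ i, hmax, inferInstance, inferInstance,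
      fun X g => ⟨?_, fun hg => ?_⟩⟩
    · rintro ⟨w, rfl⟩ X' x a
      have h := congrArg (· ≫ i) ((hcent.2.2 X (w ≫ c)).mp ⟨w, rfl⟩ X' x a)
      simpa only [MonObj.mul_comp, Category.assoc] using h
    · obtain ⟨h, rfl⟩ := hfac X g hg
      obtain ⟨w, hw⟩ := (hcent.2.2 X h).mpr fun X' x a => by
        rw [← cancel_mono i, MonObj.mul_comp, MonObj.mul_comp]
        simpa only [Category.assoc] using hg X' x a
      exact ⟨w, by rw [reassoc_of% hw]⟩
  · rintro ⟨hc1, hc2, T, _, t, ht, hcent⟩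
    haveI := hc1; haveI := hc2; haveI := ht.1; haveI := ht.2.1
    haveI : Mono c := mono_of_mono c i
    haveI : IsMonHom c := MaxTorusBC.isMonHom_of_mono c i hc1
    obtain ⟨l, hl⟩ := (hcent.2.2 T t).mpr fun X' a h => by
      rw [← MonObj.mul_comp, ← MonObj.mul_comp,
        GrpSchLib.MultTypeComm.points_comm (TorusQI.isMultTypeFT_of_isTorus ht.2.2.1) a h]
    have e : (l ≫ c) ≫ i = t := by rw [Category.assoc]; exact hl
    refine ⟨inferInstance, inferInstance, T, inferInstance, l ≫ c,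
      TorsionCent.isMaximalTorus_of_comp (l ≫ c) i (e.symm ▸ ht), inferInstance, inferInstance, fun X g => ?_⟩
    refine Iff.trans ⟨fun ⟨w, hw⟩ => ⟨w, by rw [reassoc_of% hw]⟩, fun ⟨w, hw⟩ => ⟨w, by
      rw [← cancel_mono i, Category.assoc, hw]⟩⟩ ((hcent.2.2 X (g ≫ i)).trans ?_)
    refine forall_congr' fun X' => forall_congr' fun x => forall_congr' fun a => ?_
    rw [← cancel_mono i (g := (x ≫ g) * _), MonObj.mul_comp, MonObj.mul_comp]
    simp only [← e, Category.assoc]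

end Field

end Groth.Agent.CartanIn
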