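import Groth.Agent.CartanIn.TransCartan
import Groth.Agent.CartanIn.Torus
import Groth.Agent.MaxTorTransp.Conj

/-!
# Conjugating a maximal torus or its centraliser into a subgroup containing Cartan subgroups
-/

set_option backward.isDefEq.respectTransparency false
set_option backward.isDefEq.respectTransparency.types false
set_option linter.style.haveILetI false
set_option autoImplicit false
set_option maxHeartbeats 1000000
set_option synthInstance.maxHeartbeats 200000

universe u

open CategoryTheory Limits MonoidalCategory CartesianMonoidalCategory MonObj AlgebraicGeometry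

namespace Groth.Agent.CartanIn

open GrpSchLib GrpLimLib TorsionCent MaxTorTransp MultTypeLib.CosetLift MaxTorCent

variable {S : Scheme.{u}}

/-- The condition on the geometric fibres that a subgroup contains Cartan subgroups is stable under base change. -/
theorem cartanFibres_bc {S' : Scheme.{u}} {G H : Over S} [GrpObj G] [GrpObj H] [Smooth G.hom] [IsSeparated G.hom]
    [QuasiCompact G.hom] (i : H ⟶ G) [IsMonHom i]
    (hHC : ∀ s : S, ∃ (C' : Over (Spec (CommRingCat.of (AlgebraicClosure (S.residueField s))))) (_ : GrpObj C')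
      (c' : C' ⟶ Red.geomFibre s H), SGA3x.IsCartanOver _ (c' ≫ (Over.pullback (Red.geomPt s)).map i))
    (f : S' ⟶ S) (s' : S') :
    ∃ (C' : Over (Spec (CommRingCat.of (AlgebraicClosure (S'.residueField s'))))) (_ : GrpObj C')
      (c' : C' ⟶ Red.geomFibre s' (Red.bc f H)),
        SGA3x.IsCartanOver _ (c' ≫ (Over.pullback (Red.geomPt s')).map ((Over.pullback f).map i)) := by
  obtain ⟨s, σ, hσ⟩ := exists_geom_factor (Red.geomPt s' ≫ f)
  obtain ⟨C', _, c', h1, h2, U, _, u, hU, hcen⟩ := hHC s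
  haveI := h1; haveI := h2
  haveI : (Over.pullback σ).IsRightAdjoint := (Over.mapPullbackAdj σ).isRightAdjoint
  haveI : (Over.pullback (Red.geomPt s')).IsRightAdjoint := (Over.mapPullbackAdj (Red.geomPt s')).isRightAdjoint
  haveI : (Over.pullback f).IsRightAdjoint := (Over.mapPullbackAdj f).isRightAdjoint
  haveI : LocallyOfFinitePresentation (Red.geomFibre s G).hom :=
    inferInstanceAs (LocallyOfFinitePresentation (pullback.snd G.hom (Red.geomPt s)))
  haveI : QuasiCompact (Red.geomFibre s G).hom := inferInstanceAs (QuasiCompact (pullback.snd G.hom (Red.geomPt s)))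
  haveI : IsSeparated (Red.geomFibre s G).hom := inferInstanceAs (IsSeparated (pullback.snd G.hom (Red.geomPt s)))
  have hσc : SGA3x.IsCartanOver _ ((Over.pullback σ).map (c' ≫ (Over.pullback (Red.geomPt s)).map i)) :=
    ⟨inferInstance, inferInstance, Red.bc σ U, inferInstance, (Over.pullback σ).map u, isMaximalTorus_bc hU σ,
      SolvGrp.isCentralizerOf_bc σ u _ hcen⟩
  haveI : IsMonHom (cmp (rfl : Red.geomPt s' ≫ f = _) G).inv :=
    haveI := isMonHom_cmp_hom (rfl : Red.geomPt s' ≫ f = _) G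
    TorsionCent.isMonHom_inv_of _
  haveI := isMonHom_cmp_hom hσ G
  haveI : IsMonHom (cmp hσ G ≪≫ (cmp (rfl : Red.geomPt s' ≫ f = _) G).symm).hom :=
    inferInstanceAs (IsMonHom ((cmp hσ G).hom ≫ (cmp (rfl : Red.geomPt s' ≫ f = _) G).inv))
  let c'' := ((Over.pullback σ).map c' ≫ (cmp hσ H).hom) ≫ (cmp (rfl : Red.geomPt s' ≫ f = _) H).inv
  have he : c'' ≫ (Over.pullback (Red.geomPt s')).map ((Over.pullback f).map i) =
      (Over.pullback σ).map (c' ≫ (Over.pullback (Red.geomPt s)).map i) ≫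
        (cmp hσ G ≪≫ (cmp (rfl : Red.geomPt s' ≫ f = _) G).symm).hom := by
    show _ = _ ≫ (cmp hσ G).hom ≫ (cmp (rfl : Red.geomPt s' ≫ f = _) G).inv
    simp only [c'', Functor.map_comp, Category.assoc]
    congr 1
    rw [← Category.assoc ((Over.pullback σ).map ((Over.pullback (Red.geomPt s)).map i)),
      MaxTorusBC.cmp_naturality hσ i, Category.assoc (cmp hσ H).hom]
    congr 1
    rw [Iso.inv_comp_eq, ← Category.assoc, Iso.eq_comp_inv]
    exact (MaxTorusBC.cmp_naturality _ i).symm ▸ rfl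
  refine ⟨Red.bc σ C', inferInstance, c'', ?_⟩
  haveI : IsMonHom (c'' ≫ (Over.pullback (Red.geomPt s')).map ((Over.pullback f).map i)) := by rw [he]; infer_instance
  exact isCartanOver_of_iso hσc (Iso.refl _) (cmp hσ G ≪≫ (cmp (rfl : Red.geomPt s' ≫ f = _) G).symm)
    (by rw [Iso.refl_hom, Category.id_comp, he])

set_option maxHeartbeats 2000000 in
/-- A point conjugating a maximal torus into a subgroup containing Cartan subgroups conjugates its centraliser
into it. -/
theorem exists_cent_fac {G H T C : Over S} [GrpObj G] [GrpObj H] [GrpObj T] [GrpObj C] [Smooth G.hom]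
    [IsSeparated G.hom] [QuasiCompact G.hom] [Smooth H.hom] [IsSeparated H.hom] [QuasiCompact H.hom] [Smooth C.hom]
    (i : H ⟶ G) [IsMonHom i] [Mono i]
    (hHC : ∀ s : S, ∃ (C' : Over (Spec (CommRingCat.of (AlgebraicClosure (S.residueField s))))) (_ : GrpObj C')
      (c' : C' ⟶ Red.geomFibre s H), SGA3x.IsCartanOver _ (c' ≫ (Over.pullback (Red.geomPt s)).map i))
    {t : T ⟶ G} (hT : Red.IsMaximalTorus t) {c : C ⟶ G} (hc : Red.IsCentralizerOf t c) (g : 𝟙_ (Over S) ⟶ G)
    (b : T ⟶ H) (hb : b ≫ i = t ≫ conjEnd g) : ∃ f, f ≫ i = c ≫ conjEnd g := by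
  haveI := hT.1; haveI := hT.2.1; haveI := hc.1; haveI := hc.2.1
  let φ := conjEnd g
  let φ' := conjEnd g⁻¹
  have hφ : φ ≫ φ' = 𝟙 G := conjEnd_conjEnd _ _ rfl
  have hφ' : φ' ≫ φ = 𝟙 G := conjEnd_conjEnd _ _ (inv_inv g).symm
  have hψ : Red.IsMaximalTorus (b ≫ i) := hb ▸ isMaximalTorus_comp_iso hT φ
  have hbm := TorsionCent.isMaximalTorus_of_comp b i hψ
  haveI := hbm.1; haveI := hbm.2.1
  obtain ⟨Z, _, j, hj, hjc, hZs⟩ := MaxTorCent.exists_centralizer b (TorusQI.isMultTypeFT_of_isTorus hT.2.2.1)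
  haveI := hj.1; haveI := hj.2.1; haveI := hjc; haveI := hZs
  have hφb : b ≫ i ≫ φ' = t := by rw [reassoc_of% hb, hφ, Category.comp_id]
  obtain ⟨a, ha⟩ := (hc.2.2 Z (j ≫ i ≫ φ')).mpr fun X' x h => by
    have e := congrArg (· ≫ i ≫ φ') ((hj.2.2 Z j).mp ⟨𝟙 _, Category.id_comp _⟩ X' x h)
    simpa only [MonObj.mul_comp, Category.assoc, hφb] using e
  haveI : Mono (a ≫ c) := by rw [ha]; infer_instance
  haveI : Mono a := mono_of_mono a c
  haveI : IsMonHom a := MaxTorusBC.isMonHom_of_mono a c (by rw [ha]; infer_instance)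
  haveI : IsIso a := isIso_of_fibre_sections a fun s => by
    let p := Red.geomPt s
    haveI : (Over.pullback p).IsRightAdjoint := (Over.mapPullbackAdj p).isRightAdjoint
    haveI : Smooth (Red.geomFibre s G).hom := inferInstanceAs (Smooth (pullback.snd G.hom p))
    haveI : IsSeparated (Red.geomFibre s G).hom := inferInstanceAs (IsSeparated (pullback.snd G.hom p))
    haveI : QuasiCompact (Red.geomFibre s G).hom := inferInstanceAs (QuasiCompact (pullback.snd G.hom p))
    haveI : Smooth (Red.geomFibre s H).hom := inferInstanceAs (Smooth (pullback.snd H.hom p))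
    haveI : QuasiCompact (Red.geomFibre s H).hom := inferInstanceAs (QuasiCompact (pullback.snd H.hom p))
    obtain ⟨C', _, c', hC'⟩ := hHC s
    let cs := (Over.pullback p).map c
    let φs := (Over.pullback p).map φ
    have hbs : Red.IsMaximalTorus ((Over.pullback p).map b) := isMaximalTorus_bc hbm p
    have hbi : (Over.pullback p).map b ≫ (Over.pullback p).map i = (Over.pullback p).map t ≫ φs := by
      rw [← Functor.map_comp, hb, Functor.map_comp]
    obtain ⟨h, hh⟩ := (maxTorus_comp ((Over.pullback p).map i) hC' hbs).2 (Red.geomFibre s C) (cs ≫ φs)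
      fun X' x y => by
      have e := congrArg (· ≫ φs)
        (((SolvGrp.isCentralizerOf_bc p t c hc).2.2 _ cs).mp ⟨𝟙 _, Category.id_comp _⟩ X' x y)
      simp only [MonObj.mul_comp, Category.assoc] at e
      rw [hbi]
      exact e
    obtain ⟨β, hβ⟩ := ((SolvGrp.isCentralizerOf_bc p b j hj).2.2 (Red.geomFibre s C) h).mpr fun X' x y => by
      rw [← cancel_mono ((Over.pullback p).map i), MonObj.mul_comp, MonObj.mul_comp, Category.assoc, hh,
        Category.assoc, hbi]
      have e := congrArg (· ≫ φs)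
        (((SolvGrp.isCentralizerOf_bc p t c hc).2.2 _ cs).mp ⟨𝟙 _, Category.id_comp _⟩ X' x y)
      simpa only [MonObj.mul_comp, Category.assoc] using e
    refine ⟨β, ?_⟩
    rw [← cancel_mono cs, Category.assoc, ← Functor.map_comp, ha, Functor.map_comp, Functor.map_comp, reassoc_of% hβ,
      reassoc_of% hh, ← Functor.map_comp, hφ, CategoryTheory.Functor.map_id, Category.comp_id, Category.id_comp]
  refine ⟨inv a ≫ j, ?_⟩
  rw [Category.assoc, IsIso.inv_comp_eq, ← Category.assoc a c, ha, Category.assoc, Category.assoc]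
  show j ≫ i = j ≫ i ≫ φ' ≫ φ
  rw [hφ', Category.comp_id]

/-- A point conjugates a maximal torus into a subgroup containing Cartan subgroups iff it conjugates its centraliser
into it. -/
theorem into_torus_iff {G H T C : Over S} [GrpObj G] [GrpObj H] [GrpObj T] [GrpObj C] [Smooth G.hom]
    [IsSeparated G.hom] [QuasiCompact G.hom] [Smooth H.hom] [IsSeparated H.hom] [QuasiCompact H.hom] [Smooth C.hom]
    (i : H ⟶ G) [IsMonHom i] [Mono i]
    (hHC : ∀ s : S, ∃ (C' : Over (Spec (CommRingCat.of (AlgebraicClosure (S.residueField s))))) (_ : GrpObj C')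
      (c' : C' ⟶ Red.geomFibre s H), SGA3x.IsCartanOver _ (c' ≫ (Over.pullback (Red.geomPt s)).map i))
    {t : T ⟶ G} (hT : Red.IsMaximalTorus t) {c : C ⟶ G} (hc : Red.IsCentralizerOf t c) {X : Over S} (g : X ⟶ G) :
    Into i t g ↔ Into i c g := by
  haveI := hT.1; haveI := hT.2.1
  constructor
  · intro hg X' x y
    let f := X'.hom
    haveI : (Over.pullback f).IsRightAdjoint := (Over.mapPullbackAdj f).isRightAdjoint
    haveI : Smooth (Red.bc f G).hom := inferInstanceAs (Smooth (pullback.snd G.hom f))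
    haveI : IsSeparated (Red.bc f G).hom := inferInstanceAs (IsSeparated (pullback.snd G.hom f))
    haveI : QuasiCompact (Red.bc f G).hom := inferInstanceAs (QuasiCompact (pullback.snd G.hom f))
    haveI : Smooth (Red.bc f H).hom := inferInstanceAs (Smooth (pullback.snd H.hom f))
    haveI : IsSeparated (Red.bc f H).hom := inferInstanceAs (IsSeparated (pullback.snd H.hom f))
    haveI : QuasiCompact (Red.bc f H).hom := inferInstanceAs (QuasiCompact (pullback.snd H.hom f))
    haveI : Smooth (Red.bc f C).hom := inferInstanceAs (Smooth (pullback.snd C.hom f))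
    let e : (Over.map f).obj (𝟙_ (Over X'.left)) ≅ X' := Over.isoMk (Iso.refl _) rfl
    obtain ⟨sec, hsec⟩ := (DSPtsLib.theta_bijective (g := f) (Y := 𝟙_ (Over X'.left)) (H := G)).2 (e.hom ≫ x ≫ g)
    obtain ⟨b, hb⟩ := (into_iff i t f sec).mp (by rw [hsec, ← Category.assoc]; exact into_comp i t hg _)
    obtain ⟨l, hl⟩ := exists_cent_fac ((Over.pullback f).map i) (cartanFibres_bc i hHC f) (isMaximalTorus_bc hT f)
      (SolvGrp.isCentralizerOf_bc f t c hc) sec b hb
    obtain ⟨h, hh⟩ := (into_iff i c f sec).mpr ⟨l, hl⟩ X' e.inv y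
    exact ⟨h, by rw [← hh, hsec, Iso.inv_hom_id_assoc]⟩
  · intro hg X' x y
    obtain ⟨l, hl⟩ := (hc.2.2 T t).mpr fun X'' a h => by
      rw [← MonObj.mul_comp, ← MonObj.mul_comp,
        GrpSchLib.MultTypeComm.points_comm (TorusQI.isMultTypeFT_of_isTorus hT.2.2.1) a h]
    obtain ⟨h, hh⟩ := hg X' x (y ≫ l)
    exact ⟨h, by rw [← hh, Category.assoc, hl]⟩

set_option maxHeartbeats 2000000 in
/-- The transporter of a Cartan subgroup into a subgroup containing Cartan subgroups is surjective over the base. -/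
theorem surjective_transporter {G H C M : Over S} [GrpObj G] [GrpObj H] [GrpObj C] [Smooth G.hom] [IsSeparated G.hom]
    [QuasiCompact G.hom] [Smooth H.hom] (i : H ⟶ G) [IsMonHom i] [Mono i]
    (hHC : ∀ s : S, ∃ (C' : Over (Spec (CommRingCat.of (AlgebraicClosure (S.residueField s))))) (_ : GrpObj C')
      (c' : C' ⟶ Red.geomFibre s H), SGA3x.IsCartanOver _ (c' ≫ (Over.pullback (Red.geomPt s)).map i))
    (c : C ⟶ G) (hC : SGA3x.IsCartan c) (m : M ⟶ G)
    (hM : ∀ (X : Over S) (g : X ⟶ G), (∃ z, z ≫ m = g) ↔ Into i c g) : Surjective M.hom := by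
  refine ⟨fun s => ?_⟩
  let p := Red.geomPt s
  haveI : (Over.pullback p).IsRightAdjoint := (Over.mapPullbackAdj p).isRightAdjoint
  haveI : Smooth (Red.geomFibre s G).hom := inferInstanceAs (Smooth (pullback.snd G.hom p))
  haveI : QuasiCompact (Red.geomFibre s G).hom := inferInstanceAs (QuasiCompact (pullback.snd G.hom p))
  obtain ⟨C', _, c', -, -, T', _, t', hT', hc'⟩ := hHC s
  obtain ⟨-, -, T₁, _, t₁, hT₁, hc₁⟩ := hC.2.2.2 s
  haveI := hT'.1; haveI := hT₁.1
  obtain ⟨g, φ, hφ⟩ := exists_conj_maxTorus (SolvGrp.isMaxTorus_of_isMaximalTorus hT₁)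
    (SolvGrp.isMaxTorus_of_isMaximalTorus hT')
  replace hφ : φ.hom ≫ t' = t₁ ≫ conjEnd g := by rw [hφ, comp_conjEnd]
  have hinv : φ.inv ≫ t₁ ≫ conjEnd g = t' := by rw [← hφ, Iso.inv_hom_id_assoc]
  obtain ⟨l, hl⟩ := (hc'.2.2 (Red.geomFibre s C) ((Over.pullback p).map c ≫ conjEnd g)).mpr fun X' x a => by
    have e := congrArg (· ≫ conjEnd g)
      ((hc₁.2.2 _ ((Over.pullback p).map c)).mp ⟨𝟙 _, Category.id_comp _⟩ X' x (a ≫ φ.inv))
    simpa only [MonObj.mul_comp, Category.assoc, hinv] using e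
  obtain ⟨z, -⟩ := (hM _ (DSPtsLib.theta p g)).mpr ((into_iff i c p g).mpr ⟨l ≫ c', by rw [Category.assoc, hl]⟩)
  refine ⟨z.left (IsLocalRing.closedPoint (AlgebraicClosure (S.residueField s))), ?_⟩
  rw [← Scheme.Hom.comp_apply, show z.left ≫ M.hom = 𝟙 _ ≫ p from Over.w z, Category.id_comp]
  exact Scheme.fromSpecResidueField_apply s _

end Groth.Agent.CartanIn
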