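import Groth.Agent.CartanIn.CartanField
import Groth.Agent.CartanIn.TransTorus

/-!
# The locus where a smooth subgroup is a Cartan subgroup
-/

set_option backward.isDefEq.respectTransparency false
set_option backward.isDefEq.respectTransparency.types false
set_option linter.style.haveILetI false
set_option autoImplicit false
set_option maxHeartbeats 1000000
set_option synthInstance.maxHeartbeats 200000

universe u

open CategoryTheory Limits MonoidalCategory CartesianMonoidalCategory MonObj AlgebraicGeometry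

namespace Groth.Agent.CartanIn

open GrpSchLib GrpLimLib TorsionCent MaxTorTransp MaxTorCent MultTypeLib.CosetLift

variable {S : Scheme.{u}}

/-- A morphism which is an open immersion over an open subscheme and surjective there is an isomorphism on the fibre
at a geometric point lying over it. -/
theorem isIso_pullback_map_of_nhd {A B : Over S} (w : A ⟶ B) [Mono w] {V : S.Opens}
    (hV : IsOpenImmersion ((A.hom ⁻¹ᵁ V).ι ≫ w.left))
    (hV' : (B.hom ⁻¹ᵁ V : Set B.left) ⊆ w.left '' (A.hom ⁻¹ᵁ V)) {Ω : Type u} [Field Ω]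
    (q : Spec (CommRingCat.of Ω) ⟶ S) (hq : Set.range q ⊆ V) : IsIso ((Over.pullback q).map w).left := by
  haveI := hV
  refine isIso_pullback_map_of_points w q fun Y π hπ β => ?_
  have hr : Set.range β.left ⊆ Set.range ((A.hom ⁻¹ᵁ V).ι ≫ w.left) := by
    rintro _ ⟨y, rfl⟩
    have hy : B.hom (β.left y) ∈ V := by
      rw [← Scheme.Hom.comp_apply, Over.w β, ← hπ, Scheme.Hom.comp_apply]
      exact hq ⟨_, rfl⟩
    obtain ⟨x, hx, hxy⟩ := hV' hy
    exact ⟨⟨x, hx⟩, (Scheme.Hom.comp_apply _ _ _).trans hxy⟩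
  let l := IsOpenImmersion.lift ((A.hom ⁻¹ᵁ V).ι ≫ w.left) β.left hr
  have hl : l ≫ (A.hom ⁻¹ᵁ V).ι ≫ w.left = β.left := IsOpenImmersion.lift_fac _ _ _
  exact ⟨Over.homMk (l ≫ (A.hom ⁻¹ᵁ V).ι) (by
    rw [← Over.w β, ← hl, Category.assoc, Category.assoc, Category.assoc, Over.w w]), Over.OverMorphism.ext ((Category.assoc _ _ _).trans hl)⟩

set_option maxHeartbeats 2000000 in
/-- When the group has a Cartan subgroup, being a Cartan subgroup is open on the base. -/
theorem isOpen_cartan_locus {G Z C : Over S} [GrpObj G] [GrpObj Z] [GrpObj C] [Smooth G.hom] [IsSeparated G.hom]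
    [QuasiCompact G.hom] [Smooth Z.hom] [QuasiCompact Z.hom]
    (hconn : ∀ s : S, _root_.IsConnected (G.hom.base ⁻¹' {s})) (hZ : ∀ s : S, _root_.IsConnected (Z.hom.base ⁻¹' {s}))
    (z : Z ⟶ G) [IsMonHom z] [Mono z] {c : C ⟶ G} (hC : SGA3x.IsCartan c) :
    IsOpen {s : S | SGA3x.IsCartanOver (AlgebraicClosure (S.residueField s)) ((Over.pullback (Red.geomPt s)).map z)} := by
  haveI := hC.1; haveI := hC.2.1; haveI := hC.2.2.1
  obtain ⟨M, m, -, hMs, hM⟩ := exists_transporter_cartan hconn z c hC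
  haveI := hMs
  rw [isOpen_iff_forall_mem_open]
  intro x₀ hx₀
  let p := Red.geomPt x₀
  haveI : (Over.pullback p).IsRightAdjoint := (Over.mapPullbackAdj p).isRightAdjoint
  haveI : Smooth (Red.geomFibre x₀ G).hom := inferInstanceAs (Smooth (pullback.snd G.hom p))
  haveI : QuasiCompact (Red.geomFibre x₀ G).hom := inferInstanceAs (QuasiCompact (pullback.snd G.hom p))
  obtain ⟨-, -, T', _, t', hT', hc'⟩ := hx₀
  obtain ⟨-, -, T₁, _, t₁, hT₁, hc₁⟩ := hC.2.2.2 x₀
  haveI := hT'.1; haveI := hT₁.1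
  obtain ⟨g, φ, hφ⟩ := exists_conj_maxTorus (SolvGrp.isMaxTorus_of_isMaximalTorus hT₁)
    (SolvGrp.isMaxTorus_of_isMaximalTorus hT')
  replace hφ : φ.hom ≫ t' = t₁ ≫ conjEnd g := by rw [hφ, comp_conjEnd]
  have hinv : φ.inv ≫ t₁ ≫ conjEnd g = t' := by rw [← hφ, Iso.inv_hom_id_assoc]
  have hinv' : φ.hom ≫ t' ≫ conjEnd g⁻¹ = t₁ := by
    rw [reassoc_of% hφ, conjEnd_conjEnd g g⁻¹ rfl, Category.comp_id]
  obtain ⟨l, hl⟩ := (hc'.2.2 (Red.geomFibre x₀ C) ((Over.pullback p).map c ≫ conjEnd g)).mpr fun X' x a => by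
    have e := congrArg (· ≫ conjEnd g)
      ((hc₁.2.2 _ ((Over.pullback p).map c)).mp ⟨𝟙 _, Category.id_comp _⟩ X' x (a ≫ φ.inv))
    simpa only [MonObj.mul_comp, Category.assoc, hinv] using e
  obtain ⟨l', hl'⟩ := (hc₁.2.2 (Red.geomFibre x₀ Z) ((Over.pullback p).map z ≫ conjEnd g⁻¹)).mpr fun X' x a => by
    have e := congrArg (· ≫ conjEnd g⁻¹)
      ((hc'.2.2 _ ((Over.pullback p).map z)).mp ⟨𝟙 _, Category.id_comp _⟩ X' x (a ≫ φ.hom))
    simpa only [MonObj.mul_comp, Category.assoc, hinv'] using e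
  have hback : Into c z (DSPtsLib.theta p g⁻¹) := (into_iff c z p g⁻¹).mpr ⟨l', hl'⟩
  obtain ⟨m₀, hm₀⟩ := (hM _ (DSPtsLib.theta p g)).mpr ((into_iff z c p g).mpr ⟨l, hl⟩)
  let A : Over S := (Over.map p).obj (𝟙_ (Over (Spec (CommRingCat.of (AlgebraicClosure (S.residueField x₀))))))
  -- over the transporter
  let fM := M.hom
  haveI : (Over.pullback fM).IsRightAdjoint := (Over.mapPullbackAdj fM).isRightAdjoint
  haveI : Smooth (Red.bc fM G).hom := inferInstanceAs (Smooth (pullback.snd G.hom fM))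
  haveI : IsSeparated (Red.bc fM G).hom := inferInstanceAs (IsSeparated (pullback.snd G.hom fM))
  haveI : QuasiCompact (Red.bc fM G).hom := inferInstanceAs (QuasiCompact (pullback.snd G.hom fM))
  haveI : Smooth (Red.bc fM C).hom := inferInstanceAs (Smooth (pullback.snd C.hom fM))
  haveI : Smooth (Red.bc fM Z).hom := inferInstanceAs (Smooth (pullback.snd Z.hom fM))
  let e : (Over.map fM).obj (𝟙_ (Over M.left)) ≅ M := Over.isoMk (Iso.refl _) rfl
  obtain ⟨sec, hsec⟩ := (DSPtsLib.theta_bijective (g := fM) (Y := 𝟙_ (Over M.left)) (H := G)).2 (e.hom ≫ m)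
  obtain ⟨b, hb⟩ := (into_iff z c fM sec).mp (hsec ▸ (hM _ _).mp ⟨e.hom, rfl⟩)
  haveI : Mono (b ≫ (Over.pullback fM).map z) := by rw [hb]; infer_instance
  haveI : Mono b := mono_of_mono b ((Over.pullback fM).map z)
  haveI : IsMonHom b := MaxTorusBC.isMonHom_of_mono b ((Over.pullback fM).map z) (by rw [hb]; infer_instance)
  let α : Spec (CommRingCat.of (AlgebraicClosure (S.residueField x₀))) ⟶ M.left := m₀.left
  have hiso : IsIso ((Over.pullback α).map b).left := isIso_pullback_map_of_points b α fun Y π hπ β => by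
    let ψ : (Over.map fM).obj Y ⟶ A := Over.homMk π (by
      show π ≫ A.hom = Y.hom ≫ M.hom
      rw [← Over.w m₀, ← Category.assoc]
      exact congrArg (· ≫ M.hom) hπ)
    have hψ : ψ ≫ m₀ = (Over.map fM).map (toUnit Y) ≫ e.hom :=
      Over.OverMorphism.ext (hπ.trans (Category.comp_id _).symm)
    obtain ⟨x, hx⟩ := hback ((Over.map fM).obj Y) ψ (DSPtsLib.theta fM β)
    obtain ⟨x', rfl⟩ := (DSPtsLib.theta_bijective (g := fM)).2 x
    refine ⟨x', ?_⟩
    rw [← cancel_mono ((Over.pullback fM).map z), Category.assoc, hb, ← Category.assoc, comp_conjEnd]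
    apply (DSPtsLib.theta_bijective fM).1
    rw [DSPtsLib.theta_mul, DSPtsLib.theta_mul, theta_inv, DSPtsLib.theta_comp, hsec, theta_map', theta_map',
      ← hx, theta_inv, GrpObj.comp_inv, ← reassoc_of% hψ, hm₀]
    group
  obtain ⟨V, haV, hV, hV'⟩ := exists_nhd_openImmersion b α hiso
  have hV'' := hV' fun y _ => RedCentre.isConnected_fibre_bc fM Z hZ y
  refine ⟨fM '' (V : Set M.left), ?_, fM.isOpenMap _ V.2, ⟨_, haV, ?_⟩⟩
  · rintro _ ⟨y, hy, rfl⟩
    let q := Red.geomPt y
    haveI : (Over.pullback q).IsRightAdjoint := (Over.mapPullbackAdj q).isRightAdjoint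
    have hqy : ∀ t, q t = y := fun t => Scheme.fromSpecResidueField_apply y _
    haveI : IsIso ((Over.pullback q).map b).left :=
      isIso_pullback_map_of_nhd b hV hV'' q (by rintro _ ⟨t, rfl⟩; rw [hqy]; exact hy)
    haveI : IsIso ((Over.forget _).map ((Over.pullback q).map b)) := ‹IsIso ((Over.pullback q).map b).left›
    haveI : IsIso ((Over.pullback q).map b) := isIso_of_reflects_iso _ (Over.forget _)
    haveI : IsIso ((Over.pullback q).map (conjEnd sec)) := inferInstance
    have h1 : SGA3x.IsCartanOver _ ((Over.pullback q).map ((Over.pullback fM).map z)) :=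
      haveI : IsMonHom (asIso ((Over.pullback q).map (conjEnd sec))).hom :=
        inferInstanceAs (IsMonHom ((Over.pullback q).map (conjEnd sec)))
      isCartanOver_of_iso ((isCartan_bc hC fM).2.2.2 y) (asIso ((Over.pullback q).map b))
        (asIso ((Over.pullback q).map (conjEnd sec))) (by
          rw [asIso_hom, asIso_hom, ← Functor.map_comp, hb, Functor.map_comp])
    haveI := isMonHom_cmp_hom (rfl : q ≫ fM = _) G
    haveI : (Over.pullback (q ≫ fM)).IsRightAdjoint := (Over.mapPullbackAdj (q ≫ fM)).isRightAdjoint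
    exact (cartanOver_iff_point hZ z (q ≫ fM) (fM y) (by rw [Scheme.Hom.comp_apply, hqy])).mp
      (isCartanOver_of_iso h1 (cmp rfl Z) (cmp rfl G) (MaxTorusBC.cmp_naturality _ z).symm)
  · rw [← Scheme.Hom.comp_apply, show α ≫ fM = 𝟙 _ ≫ p from Over.w m₀, Category.id_comp]
    exact Scheme.fromSpecResidueField_apply x₀ _

end Groth.Agent.CartanIn
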