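import Groth.Agent.TorsionCent.Tuple

/-!
# The scheme of homomorphisms from a finite group, without quasi-compactness
-/

set_option backward.isDefEq.respectTransparency false
set_option backward.isDefEq.respectTransparency.types false
set_option linter.style.haveILetI false
set_option autoImplicit false
set_option maxHeartbeats 1000000
set_option synthInstance.maxHeartbeats 200000

universe u

open CategoryTheory CategoryTheory.Limits MonoidalCategory CartesianMonoidalCategory MonObj GrpObj AlgebraicGeometry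

namespace Groth.Agent.CartanIn

open GrpSchLib TorsionCent

variable {S : Scheme.{u}} {G : Over S} [GrpObj G] {n : ℕ} [NeZero n]

omit [NeZero n] in
/-- Powers of a smooth separated group. -/
theorem exists_prod [Smooth G.hom] [IsSeparated G.hom] (k : ℕ) :
    ∃ (P : Over S) (pr : Fin k → (P ⟶ G)), Smooth P.hom ∧ IsSeparated P.hom ∧
      (∀ (Y : Over S) (f : Fin k → (Y ⟶ G)), ∃ l : Y ⟶ P, ∀ i, l ≫ pr i = f i) ∧
      ∀ (Y : Over S) (a b : Y ⟶ P), (∀ i, a ≫ pr i = b ≫ pr i) → a = b := by
  induction k with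
  | zero => exact ⟨𝟙_ (Over S), fun i => i.elim0, inferInstanceAs (Smooth (𝟙 S)), inferInstanceAs (IsSeparated (𝟙 S)), 
      fun Y _ => ⟨toUnit Y, fun i => i.elim0⟩, fun Y a b _ => toUnit_unique a b⟩
  | succ k ih =>
    obtain ⟨P, pr, hs, hsep, hl, hext⟩ := ih
    haveI := hs; haveI := hsep
    refine ⟨G ⊗ P, Fin.cases (fst G P) (fun i => snd G P ≫ pr i),
      inferInstanceAs (Smooth (pullback.fst G.hom P.hom ≫ G.hom)),
      inferInstanceAs (IsSeparated (pullback.fst G.hom P.hom ≫ G.hom)), fun Y f => ?_, fun Y a b h => ?_⟩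
    · obtain ⟨l, hl'⟩ := hl Y fun i => f i.succ
      exact ⟨lift (f 0) l, fun i => Fin.cases (by simp) (fun j => by simp [hl']) i⟩
    · apply CartesianMonoidalCategory.hom_ext
      · simpa using h 0
      · exact hext _ _ _ fun i => by simpa using h i.succ

/-- The scheme of homomorphisms from `(ℤ/n)^r` to a smooth separated group is smooth when `n` is invertible. -/
theorem exists_homScheme_lft (hn : IsUnit (n : Γ(S, ⊤))) [Smooth G.hom] [IsSeparated G.hom] (r : ℕ) :
    ∃ (H : Over S) (x : (Fin r → ZMod n) → (H ⟶ G)), Smooth H.hom ∧ IsSeparated H.hom ∧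
      x 0 = 1 ∧ (∀ a b, x (a + b) = x a * x b) ∧
      ∀ (Y : Over S) (f : (Fin r → ZMod n) → (Y ⟶ G)), (∀ a b, f (a + b) = f a * f b) →
        ∃ l : Y ⟶ H, ∀ a, l ≫ x a = f a := by
  classical
  let A := Fin r → ZMod n
  let κ := {i : A // i ≠ 0}
  let eκ : κ ≃ Fin (Fintype.card κ) := Fintype.equivFin κ
  obtain ⟨P, pr, hs, hsep, hl, hext⟩ := CartanIn.exists_prod (G := G) (Fintype.card κ)
  haveI := hs; haveI := hsep
  let F : A → (P ⟶ G) := fun i => if h : i = 0 then 1 else pr (eκ ⟨i, h⟩)
  have hF0 : F 0 = 1 := by simp [F]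
  have hlift : ∀ (Y : Over S) (f : A → (Y ⟶ G)), f 0 = 1 → ∃ l : Y ⟶ P, ∀ i, l ≫ F i = f i := by
    intro Y f hf
    obtain ⟨l, hl'⟩ := hl Y fun i => f (eκ.symm i).1
    refine ⟨l, fun i => ?_⟩
    by_cases h : i = 0
    · subst h; rw [hF0, MonObj.comp_one, hf]
    · simp [F, h, hl']
  have hext' : ∀ {Y : Over S} (a b : Y ⟶ P), (∀ i, a ≫ F i = b ≫ F i) → a = b := fun {Y} a b h => by
    refine hext _ _ _ fun i => ?_
    obtain ⟨⟨j, hj⟩, rfl⟩ := eκ.surjective i
    simpa [F, hj] using h j
  choose T hT using fun a : A => hlift P (fun i => F (i + a) * (F a)⁻¹) (by rw [zero_add, mul_inv_cancel])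
  have hT0 : T 0 = 𝟙 P :=
    hext' _ _ fun i => by rw [hT, add_zero, hF0, inv_one, _root_.mul_one, Category.id_comp]
  have hTadd : ∀ a b, T (a + b) = T a ≫ T b := fun a b => hext' _ _ fun i => by
    rw [Category.assoc, hT b, hT, MonObj.comp_mul, GrpObj.comp_inv, hT a, hT a]
    rw [show i + (a + b) = i + b + a by abel, show b + a = a + b from add_comm b a]
    group
  have hTc : ∀ a b, T a ≫ T b = T b ≫ T a := fun a b => by rw [← hTadd, ← hTadd, add_comm]
  obtain ⟨Z, f, hf, hZs, hZ⟩ := exists_fixed_family (X := P) hn (fun j c => T (Pi.single j c))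
    (fun j => by rw [Pi.single_zero]; exact hT0) (fun j a b => by rw [Pi.single_add, hTadd])
    (fun k l a b => hTc _ _)
  haveI := hf; haveI := hZs
  have hfix : ∀ {Y : Over S} (x : Y ⟶ P),
      (∃ y, y ≫ f = x) ↔ ∀ a i, x ≫ F (i + a) = (x ≫ F i) * (x ≫ F a) := fun {Y} x => by
    rw [hZ]
    have hiff : ∀ a, x ≫ T a = x ↔ ∀ i, x ≫ F (i + a) = (x ≫ F i) * (x ≫ F a) := fun a => by
      constructor
      · intro h i
        have := congrArg (· ≫ F i) h
        simp only [Category.assoc, hT, MonObj.comp_mul, GrpObj.comp_inv] at this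
        rwa [mul_inv_eq_iff_eq_mul] at this
      · intro h
        refine hext' _ _ fun i => ?_
        rw [Category.assoc, hT, MonObj.comp_mul, GrpObj.comp_inv, h, mul_inv_cancel_right]
    constructor
    · intro h a
      refine (hiff a).mp ?_
      rw [← Finset.univ_sum_single a]
      refine Finset.sum_induction _ (fun c => x ≫ T c = x) (fun c d hc hd => ?_) ?_ fun j _ => h j (a j)
      · show x ≫ T (c + d) = x
        rw [hTadd, ← Category.assoc, hc, hd]
      · show x ≫ T 0 = x
        rw [hT0, Category.comp_id]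
    · intro h k i
      exact (hiff _).mpr (h _)
  refine ⟨Z, fun a => f ≫ F a, hZs, by rw [← Over.w f]; infer_instance,
    by show f ≫ F 0 = 1; rw [hF0, MonObj.comp_one], fun a b => (hfix f).mp ⟨𝟙 _, Category.id_comp f⟩ b a, fun Y g hg => ?_⟩
  have hg0 : g 0 = 1 := by
    have h := hg 0 0
    rwa [add_zero, left_eq_mul] at h
  obtain ⟨l, hl'⟩ := hlift Y g hg0
  obtain ⟨z, hz⟩ := (hfix l).mpr fun a i => by rw [hl', hl', hl', hg]
  exact ⟨z, fun a => by rw [← Category.assoc, hz, hl']⟩

end Groth.Agent.CartanIn
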