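import Groth.Agent.CartanIn.Commute
import Groth.Agent.GrpSchLib.HomFlatLft
import Groth.Agent.S3025

/-!
# A monomorphism of smooth groups which is an isomorphism on one fibre
-/

set_option backward.isDefEq.respectTransparency false
set_option backward.isDefEq.respectTransparency.types false
set_option linter.style.haveILetI false
set_option autoImplicit false
set_option maxHeartbeats 1000000
set_option synthInstance.maxHeartbeats 200000

universe u

open CategoryTheory Limits MonoidalCategory CartesianMonoidalCategory MonObj AlgebraicGeometry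

namespace Groth.Agent.CartanIn

open GrpSchLib

/-- A monomorphism of smooth groups which is an isomorphism on a geometric fibre is an open immersion over a
neighbourhood, surjective there if the fibres of the target are connected. -/
theorem exists_nhd_openImmersion {S : Scheme.{u}} {A B : Over S} [GrpObj A] [GrpObj B] [Smooth A.hom] [Smooth B.hom]
    (w : A ⟶ B) [IsMonHom w] [Mono w] {Ω : Type u} [Field Ω] (a : Spec (CommRingCat.of Ω) ⟶ S)
    (h : IsIso ((Over.pullback a).map w).left) :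
    ∃ V : S.Opens, a (IsLocalRing.closedPoint Ω) ∈ V ∧ IsOpenImmersion ((A.hom ⁻¹ᵁ V).ι ≫ w.left) ∧
      ((∀ s ∈ V, _root_.IsConnected (B.hom.base ⁻¹' {s})) → (B.hom ⁻¹ᵁ V : Set B.left) ⊆ w.left '' (A.hom ⁻¹ᵁ V)) := by
  haveI : Mono w.left := inferInstanceAs (Mono ((Over.forget _).map w))
  haveI : LocallyOfFinitePresentation w.left := by
    haveI : LocallyOfFinitePresentation (w.left ≫ B.hom) := by rw [Over.w w]; infer_instance
    exact AlgSpPts.locallyOfFinitePresentation_of_comp w.left B.hom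
  let E : A.left.Opens := ⟨{x | (w.left.stalkMap x).hom.Flat}, FlatLocus.isOpen_flat_locus w.left⟩
  let e : S ⟶ A.left := η[A].left
  have he : e ≫ A.hom = 𝟙 S := Over.w η[A]
  have hee : ∀ s, A.hom (e s) = s := fun s => by
    rw [← Scheme.Hom.comp_apply, he]
    rfl
  let V : S.Opens := e ⁻¹ᵁ E
  have hsat : ∀ x : A.left, A.hom x ∈ V → x ∈ E := fun x hx =>
    Saturate.saturated (Saturate.homAction w) w (Saturate.equivariant_hom w) Loci.compat_flatLocus
      (inferInstanceAs (Flat A.hom)) (x := e (A.hom x)) (y := x) hx (hee _).symm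
  haveI : IsOpenImmersion ((A.hom ⁻¹ᵁ V).ι ≫ w.left) := by
    haveI : Flat ((A.hom ⁻¹ᵁ V).ι ≫ w.left) :=
      Flat.of_stalkMap _ fun z => (FibFlat.flat_stalk_open_comp _ w.left z).mpr (hsat _ z.2)
    exact IsOpenImmersion.of_flat_of_mono _
  refine ⟨V, flat_stalk_of_geom_iso w a h _ (hee _), inferInstance, fun hconn x hx => ?_⟩
  let W : B.left.Opens := ((A.hom ⁻¹ᵁ V).ι ≫ w.left).opensRange
  obtain ⟨p, hp1, hp2, hp⟩ := S3025.exists_mul W x (hconn _ hx) fun q hq => by
    refine ⟨⟨e q, ?_⟩, ?_⟩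
    · show A.hom (e q) ∈ V
      rw [hee]
      exact (show B.hom x = q from hq.symm) ▸ hx
    · show ((A.hom ⁻¹ᵁ V).ι ≫ w.left) _ = _
      rw [Scheme.Hom.comp_apply]
      show w.left (η[A].left q) = _
      rw [← Scheme.Hom.comp_apply, ← Over.comp_left, IsMonHom.one_hom]
  let K : Type u := (B ⊗ B).left.residueField p
  let pt : Spec (CommRingCat.of K) ⟶ (B ⊗ B).left := (B ⊗ B).left.fromSpecResidueField p
  let Y : Over S := Over.mk (pt ≫ (B ⊗ B).hom)
  let π : Y ⟶ B ⊗ B := Over.homMk pt rfl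
  have hpt : ∀ z, pt z = p := Scheme.fromSpecResidueField_apply p
  have hl : ∀ c : B ⊗ B ⟶ B, c.left p ∈ W → ∃ a' : Y ⟶ A, a' ≫ w = π ≫ c ∧ ∀ z, A.hom (a'.left z) ∈ V := by
    intro c hc
    have hr : Set.range (pt ≫ c.left) ⊆ Set.range ((A.hom ⁻¹ᵁ V).ι ≫ w.left) := by
      rintro _ ⟨z, rfl⟩
      rw [Scheme.Hom.comp_apply, hpt]
      exact hc
    let l := IsOpenImmersion.lift ((A.hom ⁻¹ᵁ V).ι ≫ w.left) (pt ≫ c.left) hr
    have hlf : l ≫ (A.hom ⁻¹ᵁ V).ι ≫ w.left = pt ≫ c.left := IsOpenImmersion.lift_fac _ _ _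
    refine ⟨Over.homMk (l ≫ (A.hom ⁻¹ᵁ V).ι) ?_, Over.OverMorphism.ext (by
      show (l ≫ (A.hom ⁻¹ᵁ V).ι) ≫ w.left = pt ≫ c.left
      rw [Category.assoc, hlf]), fun z => ?_⟩
    · show (l ≫ (A.hom ⁻¹ᵁ V).ι) ≫ A.hom = pt ≫ (B ⊗ B).hom
      rw [← Over.w c, ← reassoc_of% hlf, Over.w w, Category.assoc]
    · simp only [Over.homMk_left, Scheme.Hom.comp_apply]
      exact (l z).2
  obtain ⟨a₁, ha₁, -⟩ := hl (fst B B) hp1
  obtain ⟨a₂, ha₂, -⟩ := hl (snd B B) hp2
  have hm : (a₁ * a₂) ≫ w = π ≫ μ[B] := by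
    rw [MonObj.mul_comp, ha₁, ha₂, ← MonObj.comp_mul]
    congr 1
    rw [Hom.mul_def, lift_fst_snd, Category.id_comp]
  have hμ : μ[B].left (pt (IsLocalRing.closedPoint K)) = x := (congrArg μ[B].left (hpt _)).trans hp
  refine ⟨(a₁ * a₂).left (IsLocalRing.closedPoint K), ?_, ?_⟩
  · show A.hom _ ∈ V
    rw [← Scheme.Hom.comp_apply, Over.w, show Y.hom = pt ≫ (B ⊗ B).hom from rfl, ← Over.w μ[B], ← Category.assoc,
      Scheme.Hom.comp_apply, Scheme.Hom.comp_apply]
    exact hμ.symm ▸ hx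
  · rw [← Scheme.Hom.comp_apply, ← Over.comp_left, hm]
    show (pt ≫ μ[B].left) _ = x
    rw [Scheme.Hom.comp_apply]
    exact hμ

end Groth.Agent.CartanIn
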