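import Groth.Agent.CartanIn.Main
import Groth.Agent.CartanIn.OpenNhd
import Groth.Agent.CartanIn.HomSchemeLft
import Groth.Agent.NonAffine.Cent
import Groth.Agent.FixTorus.Conn
import Groth.Agent.RedCentre.Main
import Groth.Agent.MultTypeLib.FreeAction

/-!
# Smooth locally a Cartan subgroup is open in the centraliser of torsion sections of itself
-/

set_option backward.isDefEq.respectTransparency false
set_option backward.isDefEq.respectTransparency.types false
set_option linter.style.haveILetI false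
set_option autoImplicit false
set_option maxHeartbeats 1000000
set_option synthInstance.maxHeartbeats 200000

universe u

open CategoryTheory Limits MonoidalCategory CartesianMonoidalCategory MonObj AlgebraicGeometry

namespace Groth.Agent.CartanIn

open GrpSchLib TorsionCent

variable {S S' : Scheme.{u}}

/-- A monomorphism becomes an isomorphism over a field when all points over that field factor through it. -/
theorem isIso_pullback_map_of_points {A B : Over S} (w : A ⟶ B) [Mono w] {Ω : Type u} [Field Ω]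
    (α : Spec (CommRingCat.of Ω) ⟶ S)
    (h : ∀ (Y : Over S) (π : Y.left ⟶ Spec (CommRingCat.of Ω)), π ≫ α = Y.hom → ∀ β : Y ⟶ B, ∃ z, z ≫ w = β) :
    IsIso ((Over.pullback α).map w).left := by
  haveI : (Over.pullback α).IsRightAdjoint := (Over.mapPullbackAdj α).isRightAdjoint
  obtain ⟨p, hp⟩ := h ((Over.map α).obj (Red.bc α B)) (Red.bc α B).hom rfl (DSPtsLib.theta α (𝟙 _))
  obtain ⟨p', hp'⟩ := (DSPtsLib.theta_bijective (g := α)).2 p
  haveI : IsSplitEpi ((Over.pullback α).map w) := IsSplitEpi.mk' ⟨p', (DSPtsLib.theta_bijective α).1 (by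
    rw [theta_map', hp', hp])⟩
  haveI : IsIso ((Over.pullback α).map w) := isIso_of_mono_of_isSplitEpi _
  exact inferInstanceAs (IsIso ((Over.forget _).map ((Over.pullback α).map w)))

/-- The pull-back of a section. -/
noncomputable def bcSec (f : S' ⟶ S) {X : Over S} (x : 𝟙_ (Over S) ⟶ X) : 𝟙_ (Over S') ⟶ Red.bc f X :=
  ((DSPtsLib.theta_bijective (g := f) (Y := 𝟙_ (Over S')) (H := X)).2 (toUnit _ ≫ x)).choose

theorem theta_bcSec (f : S' ⟶ S) {X : Over S} (x : 𝟙_ (Over S) ⟶ X) (Y : Over S') :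
    DSPtsLib.theta f (toUnit Y ≫ bcSec f x) = toUnit ((Over.map f).obj Y) ≫ x := by
  rw [DSPtsLib.theta_comp, bcSec,
    ((DSPtsLib.theta_bijective (g := f) (Y := 𝟙_ (Over S')) (H := X)).2 (toUnit _ ≫ x)).choose_spec, ← Category.assoc,
    toUnit_unique ((Over.map f).map (toUnit Y) ≫ toUnit _) (toUnit _)]

theorem theta_bcSec_unit (f : S' ⟶ S) {X : Over S} (x : 𝟙_ (Over S) ⟶ X) :
    DSPtsLib.theta f (bcSec f x) = toUnit _ ≫ x :=
  ((DSPtsLib.theta_bijective (g := f) (Y := 𝟙_ (Over S')) (H := X)).2 (toUnit _ ≫ x)).choose_spec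

theorem bcSec_mul (f : S' ⟶ S) {X : Over S} [GrpObj X] (x y : 𝟙_ (Over S) ⟶ X) :
    bcSec f (x * y) = bcSec f x * bcSec f y :=
  (DSPtsLib.theta_bijective f).1 (by
    rw [DSPtsLib.theta_mul, theta_bcSec_unit, theta_bcSec_unit, theta_bcSec_unit, MonObj.comp_mul])

theorem bcSec_map (f : S' ⟶ S) {X X' : Over S} (x : 𝟙_ (Over S) ⟶ X) (v : X ⟶ X') :
    bcSec f (x ≫ v) = bcSec f x ≫ (Over.pullback f).map v :=
  (DSPtsLib.theta_bijective f).1 (by rw [theta_map', theta_bcSec_unit, theta_bcSec_unit, Category.assoc])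

/-- The centraliser of sections commutes with base change. -/
theorem cent_bc (f : S' ⟶ S) {G Z : Over S} [GrpObj G] (j : Z ⟶ G) {κ : Type*} (x : κ → (𝟙_ (Over S) ⟶ G))
    (hZ : ∀ (Y : Over S) (g : Y ⟶ G), (∃ z, z ≫ j = g) ↔ ∀ a, g * (toUnit Y ≫ x a) = (toUnit Y ≫ x a) * g)
    (Y : Over S') (g : Y ⟶ Red.bc f G) :
    (∃ z, z ≫ (Over.pullback f).map j = g) ↔
      ∀ a, g * (toUnit Y ≫ bcSec f (x a)) = (toUnit Y ≫ bcSec f (x a)) * g := by
  have h1 : (∃ z, z ≫ (Over.pullback f).map j = g) ↔ ∃ z, z ≫ j = DSPtsLib.theta f g := by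
    constructor
    · rintro ⟨z, rfl⟩
      exact ⟨_, (theta_map' f z j).symm⟩
    · rintro ⟨z, hz⟩
      obtain ⟨z', rfl⟩ := (DSPtsLib.theta_bijective (g := f)).2 z
      exact ⟨z', (DSPtsLib.theta_bijective f).1 (by rw [theta_map', hz])⟩
  rw [h1, hZ]
  exact forall_congr' fun a => by
    rw [← theta_bcSec f (x a) Y, ← DSPtsLib.theta_mul, ← DSPtsLib.theta_mul, (DSPtsLib.theta_bijective f).1.eq_iff]

/-- The base change of a morphism which is an open immersion over an open subscheme. -/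
theorem isOpenImmersion_restrict {A B : Over S} (w : A ⟶ B) {V W : S.Opens} (hWV : W ≤ V)
    (h : IsOpenImmersion ((A.hom ⁻¹ᵁ V).ι ≫ w.left)) : IsOpenImmersion ((Over.pullback W.ι).map w).left := by
  haveI := h
  haveI : IsOpenImmersion (pullback.fst B.hom W.ι) := inferInstance
  haveI : IsOpenImmersion (pullback.fst A.hom W.ι) := inferInstance
  have hr : Set.range (pullback.fst A.hom W.ι) ⊆ Set.range (A.hom ⁻¹ᵁ V).ι := by
    rw [Scheme.Opens.range_ι, Scheme.Pullback.range_fst, Scheme.Opens.range_ι]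
    exact fun x hx => hWV hx
  let l := IsOpenImmersion.lift (A.hom ⁻¹ᵁ V).ι (pullback.fst A.hom W.ι) hr
  haveI : IsOpenImmersion l := by
    haveI : IsOpenImmersion (l ≫ (A.hom ⁻¹ᵁ V).ι) := by rw [IsOpenImmersion.lift_fac]; infer_instance
    exact IsOpenImmersion.of_comp l (A.hom ⁻¹ᵁ V).ι
  haveI : IsOpenImmersion (((Over.pullback W.ι).map w).left ≫ pullback.fst B.hom W.ι) := by
    rw [show ((Over.pullback W.ι).map w).left ≫ pullback.fst B.hom W.ι = pullback.fst A.hom W.ι ≫ w.left from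
      pullback.lift_fst _ _ _, ← IsOpenImmersion.lift_fac (A.hom ⁻¹ᵁ V).ι (pullback.fst A.hom W.ι) hr, Category.assoc]
    infer_instance
  exact IsOpenImmersion.of_comp _ (pullback.fst B.hom W.ι)

/-- The base change of a morphism surjective over an open subscheme. -/
theorem surjective_restrict {A B : Over S} (w : A ⟶ B) {V W : S.Opens} (hWV : W ≤ V)
    (h : (B.hom ⁻¹ᵁ V : Set B.left) ⊆ w.left '' (A.hom ⁻¹ᵁ V)) :
    Surjective ((Over.pullback W.ι).map w).left := by
  refine ⟨fun y => ?_⟩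
  have hy : pullback.fst B.hom W.ι y ∈ Set.range (pullback.fst B.hom W.ι) := ⟨y, rfl⟩
  rw [Scheme.Pullback.range_fst, Scheme.Opens.range_ι] at hy
  obtain ⟨x, -, hx⟩ := h (show B.hom (pullback.fst B.hom W.ι y) ∈ V from hWV hy)
  have hxW : x ∈ Set.range (pullback.fst A.hom W.ι) := by
    rw [Scheme.Pullback.range_fst, Scheme.Opens.range_ι]
    show A.hom x ∈ W
    rw [← Over.w w, Scheme.Hom.comp_apply, hx]
    exact hy
  obtain ⟨x', hx'⟩ := hxW
  refine ⟨x', (pullback.fst B.hom W.ι).isOpenEmbedding.injective ?_⟩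
  refine (Scheme.Hom.comp_apply ((Over.pullback W.ι).map w).left (pullback.fst B.hom W.ι) x').symm.trans ?_
  exact (congrArg (fun m : pullback A.hom W.ι ⟶ B.left => m x') (pullback.lift_fst _ _ _ :
    ((Over.pullback W.ι).map w).left ≫ pullback.fst B.hom W.ι = pullback.fst A.hom W.ι ≫ w.left)).trans
    ((Scheme.Hom.comp_apply _ _ _).trans ((congrArg w.left hx').trans hx))

/-- `c` is open in the centraliser of commuting torsion sections of its source. -/
def HasTuple {G C : Over S} [GrpObj G] [GrpObj C] (c : C ⟶ G) : Prop :=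
  ∃ (n r : ℕ) (_ : NeZero n), IsUnit (n : Γ(S, ⊤)) ∧ ∃ (x : (Fin r → ZMod n) → (𝟙_ (Over S) ⟶ C)),
    (∀ a b, x (a + b) = x a * x b) ∧ ∃ (Z : Over S) (_ : GrpObj Z) (jZ : Z ⟶ G), IsMonHom jZ ∧ Mono jZ ∧ Smooth Z.hom ∧
      (∀ (Y : Over S) (g : Y ⟶ G),
        (∃ z, z ≫ jZ = g) ↔ ∀ a, g * (toUnit Y ≫ x a ≫ c) = (toUnit Y ≫ x a ≫ c) * g) ∧
      ∃ w : C ⟶ Z, IsOpenImmersion w.left ∧ w ≫ jZ = c

theorem hasTuple_bc (f : S' ⟶ S) {G C : Over S} [GrpObj G] [GrpObj C] {c : C ⟶ G} (h : HasTuple c) :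
    HasTuple ((Over.pullback f).map c) := by
  obtain ⟨n, r, hn0, hn, x, hadd, Z, _, jZ, hjm, hjmono, hZs, hZ, w, hw, hwc⟩ := h
  haveI := hjm; haveI := hjmono; haveI := hZs; haveI := hw
  haveI : (Over.pullback f).IsRightAdjoint := (Over.mapPullbackAdj f).isRightAdjoint
  refine ⟨n, r, hn0, by rw [← map_natCast f.appTop.hom]; exact hn.map _, fun a => bcSec f (x a),
    fun a b => (congrArg (bcSec f) (hadd a b)).trans (bcSec_mul f _ _), Red.bc f Z, inferInstance, (Over.pullback f).map jZ, inferInstance,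
    inferInstance, inferInstanceAs (Smooth (pullback.snd Z.hom f)), fun Y g => ?_,
    (Over.pullback f).map w, ?_, by rw [← Functor.map_comp, hwc]⟩
  · simpa only [bcSec_map] using cent_bc f jZ (fun a => x a ≫ c) hZ Y g
  · exact MorphismProperty.of_isPullback (P := @IsOpenImmersion) (MultTypeLib.FreeAction.isPullback_map f w) hw

variable {G C : Over S} [GrpObj G] [GrpObj C]

/-- The fibres of a Cartan subgroup of a group with connected fibres are connected. -/
theorem connected_cartan [Smooth G.hom] [QuasiCompact G.hom] (hconn : ∀ s : S, _root_.IsConnected (G.hom.base ⁻¹' {s}))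
    {c : C ⟶ G} (hC : SGA3x.IsCartan c) (s : S) : _root_.IsConnected (C.hom.base ⁻¹' {s}) := by
  haveI : Smooth (Red.geomFibre s G).hom := inferInstanceAs (Smooth (pullback.snd G.hom (Red.geomPt s)))
  haveI : QuasiCompact (Red.geomFibre s G).hom := inferInstanceAs (QuasiCompact (pullback.snd G.hom (Red.geomPt s)))
  haveI := FixTorus.connectedSpace_geomFibre s (hconn s)
  obtain ⟨-, -, T, _, iT, hT, hcent⟩ := hC.2.2.2 s
  haveI := hT.1
  haveI : ConnectedSpace ↥(Red.geomFibre s C).left := (NonAffine.smooth_connected_centralizer iT hT.2.2.1 hcent).2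
  exact FixTorus.isConnected_preimage_of_geomFibre C s

set_option maxHeartbeats 2000000 in
/-- Smooth locally a Cartan subgroup is open in the centraliser of commuting torsion sections of itself. -/
theorem exists_cover [Smooth G.hom] [IsSeparated G.hom] [QuasiCompact G.hom]
    (hconn : ∀ s : S, _root_.IsConnected (G.hom.base ⁻¹' {s})) {c : C ⟶ G} (hC : SGA3x.IsCartan c) (s : S) :
    ∃ (X : Over S) (W : X.left.Opens), Smooth X.hom ∧ (∃ x ∈ W, X.hom x = s) ∧
      HasTuple ((Over.pullback W.ι).map ((Over.pullback X.hom).map c)) := by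
  obtain ⟨hcm, hcmono, hCs, hCf⟩ := hC
  haveI := hcm; haveI := hcmono; haveI := hCs
  haveI : Mono c.left := inferInstanceAs (Mono ((Over.forget _).map c))
  haveI : IsSeparated C.hom := by rw [← Over.w c]; infer_instance
  let b := Red.geomPt s
  let k := AlgebraicClosure (S.residueField s)
  haveI : (Over.pullback b).IsRightAdjoint := (Over.mapPullbackAdj b).isRightAdjoint
  obtain ⟨U, q, hsU, hq, hqU, hqs⟩ := exists_prime_open s
  haveI : Smooth (Red.geomFibre s G).hom := inferInstanceAs (Smooth (pullback.snd G.hom b))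
  haveI : IsSeparated (Red.geomFibre s G).hom := inferInstanceAs (IsSeparated (pullback.snd G.hom b))
  haveI : QuasiCompact (Red.geomFibre s G).hom := inferInstanceAs (QuasiCompact (pullback.snd G.hom b))
  obtain ⟨n, hn0, ⟨m, hnm⟩, r, y₀, hadd₀, hy₀, hy₀'⟩ := exists_torsion_tuple ((Over.pullback b).map c)
    (𝟙 (Red.geomFibre s C)) (by rw [Category.id_comp]; exact hCf s) q hq hqs
  haveI := hn0
  have hnU : IsUnit (n : Γ((U : Scheme.{u}), ⊤)) := by rw [hnm, Nat.cast_pow]; exact hqU.pow m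
  haveI : Smooth (Red.bc U.ι C).hom := inferInstanceAs (Smooth (pullback.snd C.hom U.ι))
  haveI : IsSeparated (Red.bc U.ι C).hom := inferInstanceAs (IsSeparated (pullback.snd C.hom U.ι))
  obtain ⟨𝓧, xU, h𝓧, -, hx0, hxadd, hxuniv⟩ := exists_homScheme_lft (G := Red.bc U.ι C) hnU r
  haveI := h𝓧
  let X : Over S := (Over.map U.ι).obj 𝓧
  haveI : Smooth X.hom := inferInstanceAs (Smooth (𝓧.hom ≫ U.ι))
  let xS : (Fin r → ZMod n) → (X ⟶ C) := fun v => DSPtsLib.theta U.ι (xU v)
  -- the point over `s`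
  have hsr : Set.range b ⊆ Set.range U.ι := by
    rw [Scheme.Opens.range_ι]
    rintro _ ⟨pt, rfl⟩
    show b pt ∈ U
    rw [show b pt = s from Scheme.fromSpecResidueField_apply s _]
    exact hsU
  let b' := IsOpenImmersion.lift U.ι b hsr
  have hb' : b' ≫ U.ι = b := IsOpenImmersion.lift_fac _ _ _
  let A : Over S := (Over.map b).obj (𝟙_ (Over (Spec (CommRingCat.of k))))
  let A' : Over (U : Scheme.{u}) := Over.mk b'
  let j : (Over.map U.ι).obj A' ⟶ A := Over.homMk (𝟙 _) (by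
    show 𝟙 _ ≫ 𝟙 _ ≫ b = b' ≫ U.ι
    rw [hb', Category.id_comp, Category.id_comp])
  let j' : A ⟶ (Over.map U.ι).obj A' := Over.homMk (𝟙 _) (by
    show 𝟙 _ ≫ b' ≫ U.ι = 𝟙 _ ≫ b
    rw [hb'])
  have hjj : j' ≫ j = 𝟙 A := Over.OverMorphism.ext (Category.comp_id _)
  choose fA hfA using fun v => (DSPtsLib.theta_bijective (g := U.ι) (Y := A') (H := C)).2
    (j ≫ DSPtsLib.theta b (y₀ v))
  obtain ⟨L, hL⟩ := hxuniv A' fA fun v v' => (DSPtsLib.theta_bijective U.ι).1 (by
    rw [DSPtsLib.theta_mul, hfA, hfA, hfA, hadd₀, DSPtsLib.theta_mul, MonObj.comp_mul])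
  let a : A ⟶ X := j' ≫ (Over.map U.ι).map L
  have hax : ∀ v, a ≫ xS v = DSPtsLib.theta b (y₀ v) := fun v => by
    simp only [a, xS, Category.assoc, ← DSPtsLib.theta_comp, hL, hfA, reassoc_of% hjj]
  -- what holds over that point
  have hfac : ∀ (Z' : Over S) (ψ : Z' ⟶ A) (g : Z' ⟶ G),
      (∀ v, g * (ψ ≫ DSPtsLib.theta b (y₀ v) ≫ c) = (ψ ≫ DSPtsLib.theta b (y₀ v) ≫ c) * g) →
        ∃ h, h ≫ c = g := by
    intro Z' ψ g hg
    let Y₀ : Over (Spec (CommRingCat.of k)) := Over.mk ψ.left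
    have hψ : ψ.left ≫ b = Z'.hom :=
      (congrArg (ψ.left ≫ ·) (Category.id_comp b)).symm.trans (Over.w ψ)
    let e : (Over.map b).obj Y₀ ⟶ Z' := Over.homMk (𝟙 _) (by
      show 𝟙 _ ≫ Z'.hom = ψ.left ≫ b
      rw [hψ, Category.id_comp])
    let e' : Z' ⟶ (Over.map b).obj Y₀ := Over.homMk (𝟙 _) (by
      show 𝟙 _ ≫ ψ.left ≫ b = Z'.hom
      rw [Category.id_comp, hψ])
    have hee : e' ≫ e = 𝟙 Z' := Over.OverMorphism.ext (Category.comp_id _)
    have heψ : e ≫ ψ = (Over.map b).map (toUnit Y₀) := Over.OverMorphism.ext (Category.id_comp _)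
    obtain ⟨g₀, hg₀⟩ := (DSPtsLib.theta_bijective (g := b)).2 (e ≫ g)
    obtain ⟨h₀, hh₀⟩ := hy₀ Y₀ g₀ fun v => (DSPtsLib.theta_bijective b).1 (by
      have h := congrArg (e ≫ ·) (hg v)
      simp only [MonObj.comp_mul, reassoc_of% heψ] at h
      rw [DSPtsLib.theta_mul, DSPtsLib.theta_mul, DSPtsLib.theta_comp, theta_map', hg₀]
      exact h)
    exact ⟨e' ≫ DSPtsLib.theta b h₀, by rw [Category.assoc, ← theta_map', hh₀, hg₀, reassoc_of% hee]⟩
  have hcomm : ∀ (Z' : Over S) (ψ : Z' ⟶ A) (h : Z' ⟶ C) v,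
      h * (ψ ≫ DSPtsLib.theta b (y₀ v)) = (ψ ≫ DSPtsLib.theta b (y₀ v)) * h := by
    intro Z' ψ h v
    let Y₀ : Over (Spec (CommRingCat.of k)) := Over.mk ψ.left
    have hψ : ψ.left ≫ b = Z'.hom :=
      (congrArg (ψ.left ≫ ·) (Category.id_comp b)).symm.trans (Over.w ψ)
    let e : (Over.map b).obj Y₀ ⟶ Z' := Over.homMk (𝟙 _) (by
      show 𝟙 _ ≫ Z'.hom = ψ.left ≫ b
      rw [hψ, Category.id_comp])
    have heψ : e ≫ ψ = (Over.map b).map (toUnit Y₀) := Over.OverMorphism.ext (Category.id_comp _)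
    haveI : IsIso e := by
      haveI : IsIso ((Over.forget _).map e) := inferInstanceAs (IsIso (𝟙 Z'.left))
      exact isIso_of_reflects_iso e (Over.forget _)
    rw [← cancel_epi e, MonObj.comp_mul, MonObj.comp_mul, reassoc_of% heψ]
    obtain ⟨h₀, hh₀⟩ := (DSPtsLib.theta_bijective (g := b)).2 (e ≫ h)
    rw [← hh₀, ← DSPtsLib.theta_comp, ← DSPtsLib.theta_mul, ← DSPtsLib.theta_mul]
    congr 1
    rw [← cancel_mono ((Over.pullback b).map c), MonObj.mul_comp, MonObj.mul_comp]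
    simpa only [Category.id_comp, Category.assoc] using hy₀' Y₀ h₀ v
  -- over the space of tuples
  let h := X.hom
  haveI : (Over.pullback h).IsRightAdjoint := (Over.mapPullbackAdj h).isRightAdjoint
  let cX := (Over.pullback h).map c
  haveI : Smooth (Red.bc h C).hom := inferInstanceAs (Smooth (pullback.snd C.hom h))
  haveI : IsSeparated (Red.bc h C).hom := inferInstanceAs (IsSeparated (pullback.snd C.hom h))
  haveI : Smooth (Red.bc h G).hom := inferInstanceAs (Smooth (pullback.snd G.hom h))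
  haveI : IsSeparated (Red.bc h G).hom := inferInstanceAs (IsSeparated (pullback.snd G.hom h))
  let E : (Over.map h).obj (𝟙_ (Over X.left)) ⟶ X := Over.homMk (𝟙 _) rfl
  choose x' hx' using fun v => (DSPtsLib.theta_bijective (g := h) (Y := 𝟙_ (Over X.left)) (H := C)).2 (E ≫ xS v)
  have hx'add : ∀ v v', x' (v + v') = x' v * x' v' := fun v v' => (DSPtsLib.theta_bijective h).1 (by
    simp only [DSPtsLib.theta_mul, hx', xS, hxadd, MonObj.comp_mul])
  have hnX : IsUnit (n : Γ(X.left, ⊤)) := by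
    rw [← map_natCast 𝓧.hom.appTop.hom]
    exact hnU.map _
  have h0 : x' 0 = 1 := mul_eq_left.mp (show x' 0 * x' 0 = x' 0 by rw [← hx'add, add_zero])
  obtain ⟨hxn, hxc⟩ := tuple_props x' h0 hx'add
  obtain ⟨hgn, hgc⟩ := tuple_props (fun v => x' v ≫ cX) (by simp only [h0, MonObj.one_comp])
    fun v v' => by simp only [hx'add, MonObj.mul_comp]
  obtain ⟨ZC, _, jC, hjC, hjCc, hZCs, hZC⟩ := exists_cent hnX x' hxn hxc
  obtain ⟨ZG, _, jG, hjG, hjGc, hZGs, hZG⟩ := exists_cent hnX (fun v => x' v ≫ cX) hgn hgc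
  haveI := hjC; haveI := hjCc; haveI := hZCs; haveI := hjG; haveI := hjGc; haveI := hZGs
  haveI : Mono jC := haveI : Mono jC.left := inferInstance; Over.mono_of_mono_left _
  haveI : Mono jG := haveI : Mono jG.left := inferInstance; Over.mono_of_mono_left _
  obtain ⟨wZ, hwZ⟩ := (hZG ZC (jC ≫ cX)).mpr fun v => by
    rw [← Category.assoc (toUnit ZC), ← MonObj.mul_comp, ← MonObj.mul_comp,
      (hZC ZC jC).mp ⟨𝟙 _, Category.id_comp _⟩ v]
  haveI : Mono (wZ ≫ jG) := by rw [hwZ]; infer_instance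
  haveI : Mono wZ := mono_of_mono wZ jG
  haveI : IsMonHom wZ := MaxTorusBC.isMonHom_of_mono wZ jG (by rw [hwZ]; infer_instance)
  let α : Spec (CommRingCat.of k) ⟶ X.left := a.left
  have hpt : ∀ (Z' : Over X.left) (π : Z'.left ⟶ Spec (CommRingCat.of k)), π ≫ α = Z'.hom →
      ∃ ψ : (Over.map h).obj Z' ⟶ A, ∀ v,
        DSPtsLib.theta h (toUnit Z' ≫ x' v) = ψ ≫ DSPtsLib.theta b (y₀ v) := by
    intro Z' π hπ
    let ψ : (Over.map h).obj Z' ⟶ A := Over.homMk π (by
      show π ≫ A.hom = Z'.hom ≫ X.hom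
      rw [← Over.w a, ← Category.assoc]
      exact congrArg (· ≫ X.hom) hπ)
    have hψ : ψ ≫ a = (Over.map h).map (toUnit Z') ≫ E :=
      Over.OverMorphism.ext (hπ.trans (Category.comp_id _).symm)
    exact ⟨ψ, fun v => by rw [DSPtsLib.theta_comp, hx', ← reassoc_of% hψ, hax]⟩
  have hisoC : IsIso ((Over.pullback α).map jC).left := isIso_pullback_map_of_points jC α fun Z' π hπ β => by
    obtain ⟨ψ, hψ⟩ := hpt Z' π hπ
    exact (hZC Z' β).mpr fun v => (DSPtsLib.theta_bijective h).1 (by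
      rw [DSPtsLib.theta_mul, DSPtsLib.theta_mul, hψ, hcomm])
  have hisoG : IsIso ((Over.pullback α).map wZ).left := isIso_pullback_map_of_points wZ α fun Z' π hπ β => by
    obtain ⟨ψ, hψ⟩ := hpt Z' π hπ
    obtain ⟨h₁, hh₁⟩ := hfac _ ψ (DSPtsLib.theta h (β ≫ jG)) fun v => by
      have h2 := congrArg (DSPtsLib.theta h) ((hZG Z' (β ≫ jG)).mp ⟨β, rfl⟩ v)
      rw [DSPtsLib.theta_mul, DSPtsLib.theta_mul, ← Category.assoc (toUnit Z'), theta_map', hψ, Category.assoc] at h2
      exact h2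
    obtain ⟨β', hβ'⟩ := (DSPtsLib.theta_bijective (g := h)).2 h₁
    obtain ⟨z, hz⟩ := (hZC Z' β').mpr fun v => (DSPtsLib.theta_bijective h).1 (by
      rw [DSPtsLib.theta_mul, DSPtsLib.theta_mul, hψ, hcomm])
    refine ⟨z, ?_⟩
    rw [← cancel_mono jG, Category.assoc, hwZ, reassoc_of% hz]
    exact (DSPtsLib.theta_bijective h).1 (by rw [theta_map', hβ', hh₁])
  -- the open subscheme
  obtain ⟨V₁, ha₁, hV₁, hV₁'⟩ := exists_nhd_openImmersion jC α hisoC
  obtain ⟨V₂, ha₂, hV₂, -⟩ := exists_nhd_openImmersion wZ α hisoG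
  let W : X.left.Opens := V₁ ⊓ V₂
  have hW₁ : W ≤ V₁ := inf_le_left
  have hW₂ : W ≤ V₂ := inf_le_right
  refine ⟨X, W, inferInstance, ⟨α (IsLocalRing.closedPoint k), ⟨ha₁, ha₂⟩, ?_⟩, ?_⟩
  · rw [← Scheme.Hom.comp_apply, show α ≫ X.hom = 𝟙 _ ≫ b from Over.w a, Category.id_comp]
    exact Scheme.fromSpecResidueField_apply s _
  have hCX := connected_cartan hconn ⟨hcm, hcmono, hCs, hCf⟩
  haveI := isOpenImmersion_restrict jC hW₁ hV₁
  haveI := surjective_restrict jC hW₁ (hV₁' fun p _ => RedCentre.isConnected_fibre_bc h C hCX p)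
  haveI : IsIso ((Over.pullback W.ι).map jC).left :=
    (isIso_iff_isOpenImmersion_and_surjective _).mpr ⟨inferInstance, inferInstance⟩
  haveI : IsIso ((Over.forget _).map ((Over.pullback W.ι).map jC)) := ‹IsIso ((Over.pullback W.ι).map jC).left›
  haveI : IsIso ((Over.pullback W.ι).map jC) := isIso_of_reflects_iso _ (Over.forget _)
  haveI := isOpenImmersion_restrict wZ hW₂ hV₂
  haveI : (Over.pullback W.ι).IsRightAdjoint := (Over.mapPullbackAdj W.ι).isRightAdjoint
  refine ⟨n, r, hn0, by rw [← map_natCast W.ι.appTop.hom]; exact hnX.map _, fun v => bcSec W.ι (x' v),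
    fun v v' => (congrArg (bcSec W.ι) (hx'add v v')).trans (bcSec_mul _ _ _), Red.bc W.ι ZG, inferInstance,
    (Over.pullback W.ι).map jG, inferInstance, inferInstance, inferInstanceAs (Smooth (pullback.snd ZG.hom W.ι)),
    fun Y g => by simpa only [bcSec_map] using cent_bc W.ι jG _ hZG Y g,
    inv ((Over.pullback W.ι).map jC) ≫ (Over.pullback W.ι).map wZ, ?_, ?_⟩
  · rw [Over.comp_left]
    haveI : IsIso (inv ((Over.pullback W.ι).map jC)).left :=
      inferInstanceAs (IsIso ((Over.forget _).map (inv ((Over.pullback W.ι).map jC))))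
    infer_instance
  · rw [Category.assoc, ← Functor.map_comp, hwZ, Functor.map_comp, IsIso.inv_hom_id_assoc]

end Groth.Agent.CartanIn
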