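import Groth.Agent.CartanIn.Level
import Groth.Agent.GrpSchLib.HomFibre
import Groth.Agent.GrpSchLib.HomSplitLocal
import Groth.Agent.FibFlat.Core
import Groth.Agent.S4656
import Groth.Agent.FlatPtDesc.Basic
import Groth.Agent.AlgSpDec.SchDenseFlat

/-!
# What commutes with a smooth subgroup containing Cartan subgroups lies in it
-/

set_option backward.isDefEq.respectTransparency false
set_option backward.isDefEq.respectTransparency.types false
set_option linter.style.haveILetI false
set_option autoImplicit false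
set_option maxHeartbeats 1000000
set_option synthInstance.maxHeartbeats 200000

universe u

open CategoryTheory Limits MonoidalCategory CartesianMonoidalCategory MonObj AlgebraicGeometry

namespace Groth.Agent.CartanIn

open GrpSchLib GrpLimLib TorsionCent AGFLib

variable {S : Scheme.{u}}

/-- A morphism to a spectrum of a residue field through which a geometric point factors. -/
theorem exists_residue_fac {X : Scheme.{u}} {Ω : Type u} [Field Ω] (a : Spec (CommRingCat.of Ω) ⟶ X) :
    ∃ r : Spec (CommRingCat.of Ω) ⟶ Spec (X.residueField (a (IsLocalRing.closedPoint Ω))),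
      r ≫ X.fromSpecResidueField (a (IsLocalRing.closedPoint Ω)) = a :=
  ⟨Spec.map (Scheme.descResidueField (Scheme.stalkClosedPointTo a)), by
    rw [Scheme.descResidueField_stalkClosedPointTo_fromSpecResidueField]⟩

/-- A morphism is flat over the points above the image of a geometric point if its base change there is an
isomorphism, for schemes smooth over the base. -/
theorem flat_stalk_of_geom_iso {A B : Over S} [Smooth A.hom] [Smooth B.hom] (w : A ⟶ B) {Ω : Type u} [Field Ω]
    (a : Spec (CommRingCat.of Ω) ⟶ S) (h : IsIso ((Over.pullback a).map w).left) (z : A.left)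
    (hz : A.hom z = a (IsLocalRing.closedPoint Ω)) : (w.left.stalkMap z).hom.Flat := by
  obtain ⟨r, hr⟩ := exists_residue_fac a
  let s := a (IsLocalRing.closedPoint Ω)
  let g := S.fromSpecResidueField s
  let φ := ((Over.pullback g).map w).left
  have hsq : IsPullback (HomSplitLocal.baseMap A r g) ((Over.pullback (r ≫ g)).map w).left φ
      (HomSplitLocal.baseMap B r g) := HomSplitLocal.isPullback_comp w r g
  haveI : Surjective r := ⟨fun x => ⟨IsLocalRing.closedPoint Ω, Subsingleton.elim _ _⟩⟩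
  haveI : Flat r := MorLib.BF.flat_to_field (Field.toIsField (S.residueField s)) r
  haveI : QuasiCompact r := inferInstance
  have hb := HomSplitLocal.isPullback_baseMap B r g
  haveI : Surjective (HomSplitLocal.baseMap B r g) := MorphismProperty.of_isPullback (P := @Surjective) hb.flip ‹_›
  haveI : Flat (HomSplitLocal.baseMap B r g) := MorphismProperty.of_isPullback (P := @Flat) hb.flip ‹_›
  haveI : QuasiCompact (HomSplitLocal.baseMap B r g) := MorphismProperty.of_isPullback (P := @QuasiCompact) hb.flip ‹_›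
  haveI : IsIso ((Over.pullback (r ≫ g)).map w).left := by rw [hr]; exact h
  haveI : IsIso (pullback.snd φ (HomSplitLocal.baseMap B r g)) := by
    rw [show pullback.snd φ (HomSplitLocal.baseMap B r g) = hsq.isoPullback.inv ≫ ((Over.pullback (r ≫ g)).map w).left
      from hsq.isoPullback_inv_snd.symm]
    infer_instance
  haveI : IsIso φ := MorphismProperty.of_pullback_snd_of_descendsAlong
    (P := MorphismProperty.isomorphisms Scheme.{u}) (Q := @Surjective ⊓ @Flat ⊓ @QuasiCompact)
    (f := φ) (g := HomSplitLocal.baseMap B r g) ⟨⟨inferInstance, inferInstance⟩, inferInstance⟩ ‹_›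
  obtain ⟨z', hz'⟩ : z ∈ Set.range (pullback.fst A.hom g) := by
    rw [Scheme.Pullback.range_fst, Scheme.range_fromSpecResidueField]
    exact hz
  have := GrpSchLib.HomFibre.flat_of_fibre_flat w.left B.hom A.hom (Over.w w) s z' φ
    (HomSplitLocal.map_fst w g) (HomSplitLocal.map_snd w g) (Flat.stalkMap φ z')
  rwa [hz'] at this

variable {G H K P : Over S} [GrpObj G] [GrpObj H] [Smooth G.hom] [IsSeparated G.hom] [Smooth H.hom]
  [IsSeparated H.hom]

/-- Flatness of the intersection with `H` at the points over the image of a point carrying torsion elements whose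
centraliser lies in `H`. -/
theorem flat_stalk_of_level (i : H ⟶ G) [IsMonHom i] [Mono i] {z : K ⟶ G}
    (hc : ∀ (Y : Over S) (x : Y ⟶ K) (h : Y ⟶ H), (x ≫ z) * (h ≫ i) = (h ≫ i) * (x ≫ z))
    {p : P ⟶ K} {hP : P ⟶ H} (sq : IsPullback p hP z i) {X : Over S} [Flat X.hom]
    {n : ℕ} [NeZero n] (hn : IsUnit (n : Γ(X.left, ⊤))) {κ : Type*} [Finite κ] (x : κ → (X ⟶ H))
    (hxn : ∀ j, x j ^ n = 1) (hxc : ∀ j l, x j * x l = x l * x j) {Ω : Type u} [Field Ω]
    (b : Spec (CommRingCat.of Ω) ⟶ S) (a : (Over.map b).obj (𝟙_ (Over (Spec (CommRingCat.of Ω)))) ⟶ X)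
    (hfac : ∀ (Y : Over S) (π : Y ⟶ (Over.map b).obj (𝟙_ (Over (Spec (CommRingCat.of Ω))))) (g : Y ⟶ G),
      (∀ j, g * (π ≫ a ≫ x j ≫ i) = (π ≫ a ≫ x j ≫ i) * g) → ∃ h, h ≫ i = g)
    (y : P.left) (hy : P.hom y = b (IsLocalRing.closedPoint Ω)) : (p.left.stalkMap y).hom.Flat := by
  obtain ⟨f, hf⟩ : ∃ f : X.left ⟶ S, f = X.hom := ⟨_, rfl⟩
  let F := Over.pullback f
  haveI : F.IsRightAdjoint := (Over.mapPullbackAdj f).isRightAdjoint
  let e : (Over.map f).obj (𝟙_ (Over X.left)) ⟶ X := Over.homMk (𝟙 X.left) (by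
    show 𝟙 _ ≫ X.hom = 𝟙 _ ≫ f
    rw [hf])
  haveI : Smooth (Red.bc f H).hom := inferInstanceAs (Smooth (pullback.snd H.hom f))
  haveI : IsSeparated (Red.bc f H).hom := inferInstanceAs (IsSeparated (pullback.snd H.hom f))
  haveI : Smooth (Red.bc f G).hom := inferInstanceAs (Smooth (pullback.snd G.hom f))
  haveI : IsSeparated (Red.bc f G).hom := inferInstanceAs (IsSeparated (pullback.snd G.hom f))
  choose xH hxH using fun j => (DSPtsLib.theta_bijective (g := f) (Y := 𝟙_ (Over X.left)) (H := H)).2 (e ≫ x j)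
  let xG : κ → (𝟙_ (Over X.left) ⟶ Red.bc f G) := fun j => xH j ≫ F.map i
  have hxHn : ∀ j, xH j ^ n = 1 := fun j => (DSPtsLib.theta_bijective f).1 (by
    rw [theta_npow, hxH, ← comp_npow', hxn, MonObj.comp_one, HomUnitLocus.theta_one])
  have hxHc : ∀ j l, xH j * xH l = xH l * xH j := fun j l => (DSPtsLib.theta_bijective f).1 (by
    rw [DSPtsLib.theta_mul, DSPtsLib.theta_mul, hxH, hxH, ← MonObj.comp_mul, ← MonObj.comp_mul, hxc])
  obtain ⟨ZH, _, jH, hjHm, hjHc, hZHs, hZH⟩ := exists_cent hn xH hxHn hxHc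
  obtain ⟨ZG, _, jG, hjGm, hjGc, hZGs, hZG⟩ := exists_cent hn xG
    (fun j => by simp only [xG, ← npow_comp', hxHn, MonObj.one_comp])
    (fun j l => by simp only [xG, ← MonObj.mul_comp, hxHc])
  haveI := hjHc; haveI := hjGc; haveI := hZHs; haveI := hZGs; haveI := hjHm; haveI := hjGm
  haveI : Mono jH := haveI : Mono jH.left := inferInstance; Over.mono_of_mono_left _
  haveI : Mono jG := haveI : Mono jG.left := inferInstance; Over.mono_of_mono_left _
  have hθ : ∀ (Y : Over X.left) j, DSPtsLib.theta f (toUnit Y ≫ xG j) =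
      (Over.map f).map (toUnit Y) ≫ e ≫ x j ≫ i := fun Y j => by
    rw [DSPtsLib.theta_comp, theta_map', hxH, Category.assoc]
  -- the centraliser in `H` is the trace of the centraliser in `G`
  have hcm : ∀ (Y : Over X.left) (v : Y ⟶ Red.bc f H), (∃ l, l ≫ jH = v) ↔ ∃ l, l ≫ jG = v ≫ F.map i :=
    fun Y v => by
      rw [hZH, hZG]
      refine forall_congr' fun j => ?_
      rw [show toUnit Y ≫ xG j = (toUnit Y ≫ xH j) ≫ F.map i from (Category.assoc _ _ _).symm,
        ← MonObj.mul_comp, ← MonObj.mul_comp, cancel_mono]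
  obtain ⟨w, hw⟩ := (hcm _ jH).mp ⟨𝟙 _, Category.id_comp _⟩
  haveI : Mono w := mono_of_mono_fac hw
  have hwsq : IsPullback w jH jG (F.map i) := by
    refine ⟨⟨hw⟩, ⟨PullbackCone.IsLimit.mk hw (fun s => ((hcm _ s.snd).mpr ⟨s.fst, s.condition⟩).choose) (fun s => ?_)
      (fun s => ((hcm _ s.snd).mpr ⟨s.fst, s.condition⟩).choose_spec) (fun s m _ h2 => ?_)⟩⟩
    · rw [← cancel_mono jG, Category.assoc, hw, ← Category.assoc,
        ((hcm _ s.snd).mpr ⟨s.fst, s.condition⟩).choose_spec, s.condition]
    · rw [← cancel_mono jH, h2, ((hcm _ s.snd).mpr ⟨s.fst, s.condition⟩).choose_spec]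
  -- the two maps to the centralisers
  obtain ⟨lz, hlz⟩ := (hZG (F.obj K) (F.map z)).mpr fun j => by
    apply (DSPtsLib.theta_bijective f).1
    rw [DSPtsLib.theta_mul, DSPtsLib.theta_mul, hθ]
    have e1 : DSPtsLib.theta f (F.map z) = DSPtsLib.theta f (𝟙 (F.obj K)) ≫ z := by
      rw [← theta_map', Category.id_comp]
    rw [e1]
    have h := hc _ (DSPtsLib.theta f (𝟙 (F.obj K))) ((Over.map f).map (toUnit (F.obj K)) ≫ e ≫ x j)
    simpa only [Category.assoc] using h
  have sqX : IsPullback (F.map p) (F.map hP) (F.map z) (F.map i) := sq.map F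
  obtain ⟨lh, hlh⟩ := (hcm _ (F.map hP)).mpr ⟨F.map p ≫ lz, by rw [Category.assoc, hlz, sqX.w]⟩
  have hsq : IsPullback (F.map p) lh lz w := by
    refine IsPullback.of_bot (by rw [hlh, hlz]; exact sqX) ?_ hwsq
    rw [← cancel_mono jG, Category.assoc, Category.assoc, hlz, hw, reassoc_of% hlh, sqX.w]
  have sqL := hsq.map (Over.forget _)
  -- the fibre at the chosen point
  let x₀ : Spec (CommRingCat.of Ω) ⟶ X.left := a.left
  have hx₀ : x₀ ≫ f = b := by
    rw [hf]
    exact (Over.w a).trans (Category.id_comp b)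
  haveI : IsIso ((Over.pullback x₀).map w).left := by
    haveI : (Over.pullback x₀).IsRightAdjoint := (Over.mapPullbackAdj x₀).isRightAdjoint
    let W := Red.bc x₀ ZG
    let Y : Over S := (Over.map f).obj ((Over.map x₀).obj W)
    let π : Y ⟶ (Over.map b).obj (𝟙_ (Over (Spec (CommRingCat.of Ω)))) := Over.homMk W.hom (by
      show W.hom ≫ 𝟙 _ ≫ b = (W.hom ≫ x₀) ≫ f
      rw [Category.id_comp, Category.assoc, hx₀])
    let u := DSPtsLib.theta x₀ (𝟙 W)
    obtain ⟨h, hh⟩ := hfac Y π (DSPtsLib.theta f (u ≫ jG)) fun j => by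
      have h := congrArg (DSPtsLib.theta f) ((hZG _ (u ≫ jG)).mp ⟨u, rfl⟩ j)
      rw [DSPtsLib.theta_mul, DSPtsLib.theta_mul, hθ] at h
      have e2 : (Over.map f).map (toUnit ((Over.map x₀).obj W)) ≫ e = π ≫ a := by
        refine Over.OverMorphism.ext ?_
        simp only [Over.comp_left, Over.map_map_left, π, e, Over.homMk_left, Category.comp_id]
        exact (Category.comp_id _).symm.trans (Over.w (toUnit ((Over.map x₀).obj W)))
      rw [reassoc_of% e2] at h
      exact h
    obtain ⟨h', hh'⟩ := (DSPtsLib.theta_bijective (g := f)).2 h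
    obtain ⟨v, hv⟩ := (hcm _ h').mpr ⟨u, (DSPtsLib.theta_bijective f).1 (by
      rw [← hh, ← hh', theta_map'])⟩
    obtain ⟨v', hv'⟩ := (DSPtsLib.theta_bijective (g := x₀)).2 v
    have hs : v' ≫ (Over.pullback x₀).map w = 𝟙 W := by
      apply (DSPtsLib.theta_bijective x₀).1
      rw [theta_map', hv', ← cancel_mono jG, Category.assoc, hw, ← Category.assoc, hv]
      exact (DSPtsLib.theta_bijective f).1 (by rw [theta_map', hh', hh])
    haveI : IsSplitEpi ((Over.pullback x₀).map w) := IsSplitEpi.mk' ⟨v', hs⟩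
    haveI : IsIso ((Over.pullback x₀).map w) := isIso_of_mono_of_isSplitEpi _
    exact inferInstanceAs (IsIso ((Over.forget _).map ((Over.pullback x₀).map w)))
  -- a point over the two given ones
  have hyx : P.hom y = X.hom (x₀ (IsLocalRing.closedPoint Ω)) := by
    rw [hy, ← hx₀, hf]; rfl
  obtain ⟨y', hy'1, hy'2⟩ := Scheme.Pullback.exists_preimage_pullback (f := P.hom) (g := f) y
    (x₀ (IsLocalRing.closedPoint Ω)) (by rw [hyx, hf])
  haveI : LocallyOfFinitePresentation w.left := by
    haveI : LocallyOfFinitePresentation (w.left ≫ ZG.hom) := by rw [Over.w]; infer_instance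
    exact AlgSpPts.locallyOfFinitePresentation_of_comp w.left ZG.hom
  have hwflat : (w.left.stalkMap (lh.left y')).hom.Flat := by
    refine flat_stalk_of_geom_iso w x₀ inferInstance _ ?_
    rw [← Scheme.Hom.comp_apply, Over.w]
    exact hy'2
  haveI : LocallyOfFinitePresentation ((Over.forget X.left).map w) := ‹LocallyOfFinitePresentation w.left›
  have hpX : ((F.map p).left.stalkMap y').hom.Flat := FibFlat.flat_stalk_of_isPullback sqL.flip y' hwflat
  haveI : Flat f := hf ▸ inferInstanceAs (Flat X.hom)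
  have hcomp : ((pullback.fst P.hom f ≫ p.left).stalkMap y').hom.Flat := by
    have he := HomSplitLocal.map_fst p f
    refine FlatPtDesc.flat_stalkMap_of_eq he y' ?_
    rw [Scheme.Hom.stalkMap_comp]
    exact RingHom.Flat.comp (Flat.stalkMap (pullback.fst K.hom f) _) hpX
  have := (S4656.result (pullback.fst P.hom f) p.left y' (Flat.stalkMap _ _)).mp hcomp
  rwa [hy'1] at this

end Groth.Agent.CartanIn
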