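import Groth.Agent.TorsionCent.Main
import Groth.Agent.TorsionCent.GoodLocus
import Groth.Agent.MaxTorusBC.Basic

/-!
# A torsion level cutting out a subgroup which contains a Cartan subgroup
-/

set_option backward.isDefEq.respectTransparency false
set_option backward.isDefEq.respectTransparency.types false
set_option linter.style.haveILetI false
set_option autoImplicit false
set_option maxHeartbeats 1000000
set_option synthInstance.maxHeartbeats 200000

universe u

open CategoryTheory Limits MonoidalCategory CartesianMonoidalCategory MonObj AlgebraicGeometry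

namespace Groth.Agent.CartanIn

open GrpSchLib GrpLimLib TorsionCent AGFLib AGFLib.Gen SolvGrp

variable {k : Type u} [Field k] [IsAlgClosed k]

local notation "PT" => 𝟙_ (Over (Spec (CommRingCat.of k)))

/-- There are finitely many torsion points of a subgroup containing a Cartan subgroup such that anything commuting
with them lies in the subgroup. -/
theorem exists_torsion_tuple {G H C : Over (Spec (CommRingCat.of k))} [GrpObj G] [GrpObj H] [GrpObj C] [Smooth G.hom]
    [IsSeparated G.hom] [QuasiCompact G.hom] (i : H ⟶ G) [IsMonHom i] [Mono i] (c : C ⟶ H)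
    (hc : SGA3x.IsCartanOver k (c ≫ i)) (q : ℕ) (hq : q.Prime) (hqk : (q : k) ≠ 0) :
    ∃ (n : ℕ) (_ : NeZero n), (∃ m, n = q ^ m) ∧ ∃ (r : ℕ) (y : (Fin r → ZMod n) → (PT ⟶ H)),
      (∀ a b, y (a + b) = y a * y b) ∧ (∀ (Y : Over (Spec (CommRingCat.of k))) (g : Y ⟶ G),
        (∀ a, g * (toUnit Y ≫ y a ≫ i) = (toUnit Y ≫ y a ≫ i) * g) → ∃ h, h ≫ i = g) ∧
      ∀ (Y : Over (Spec (CommRingCat.of k))) (h : Y ⟶ C) (a : Fin r → ZMod n),
        (h ≫ c ≫ i) * (toUnit Y ≫ y a ≫ i) = (toUnit Y ≫ y a ≫ i) * (h ≫ c ≫ i) := by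
  classical
  obtain ⟨hcm, hcmono, T, _, iT, hT, hC⟩ := hc
  haveI := hcm; haveI := hcmono; haveI := hT.1
  have hTm := TorusQI.isMultTypeFT_of_isTorus hT.2.2.1
  obtain ⟨C₀, _, c₀, hc₀, hc₀c, hc₀s⟩ := MaxTorCent.exists_centralizer iT hTm
  haveI := hc₀c; haveI := hc₀s; haveI := hc₀.1
  have hq' : IsUnit (q : Γ(Spec (CommRingCat.of k), ⊤)) := by
    rw [← map_natCast (Scheme.ΓSpecIso (CommRingCat.of k)).inv.hom]
    exact (isUnit_iff_ne_zero.mpr hqk).map _
  obtain ⟨m, hm⟩ := TorsionCent.exists_level iT hT.2.2.1 c₀ hc₀ q hq hq'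
  let n := q ^ m
  haveI hn0 : NeZero n := ⟨pow_ne_zero _ hq.ne_zero⟩
  have hn : IsUnit (n : Γ(Spec (CommRingCat.of k), ⊤)) := by rw [Nat.cast_pow]; exact hq'.pow m
  haveI : Smooth T.hom := (torus_props hT.2.2.1).2.1
  haveI : IsSeparated T.hom := GrpSchLib.AntiAffine.isSeparated_grp T
  haveI : IsAffineHom T.hom := (TransLib.multTypeFT_essFree hTm).1
  obtain ⟨Kn, κ, -, hKf, -, hK⟩ := exists_torsion hTm n (NeZero.pos n) hn
  haveI := hKf
  haveI : IsFinite Kn.hom := hKf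
  have hfin : {τ : PT ⟶ T | τ ^ n = 1}.Finite := by
    haveI := SolvGrp.finite_pts_of_isFinite (F := Kn)
    refine (Set.finite_range fun l : PT ⟶ Kn => l ≫ κ).subset fun τ hτ => ?_
    obtain ⟨l, hl⟩ := (hK _ τ).mp hτ
    exact ⟨l, hl⟩
  haveI := hfin.to_subtype
  obtain ⟨r, ⟨en⟩⟩ := Finite.exists_equiv_fin {τ : PT ⟶ T | τ ^ n = 1}
  letI : CommMonoid (PT ⟶ T) :=
    { (inferInstance : Monoid _) with mul_comm := fun u v => GrpSchLib.MultTypeComm.points_comm hTm u v }
  let f : (Fin r → ZMod n) → (PT ⟶ T) := fun v => ∏ j, (en.symm j).1 ^ (v j).val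
  have hfadd : ∀ u v, f (u + v) = f u * f v := fun u v => by
    rw [← Finset.prod_mul_distrib]
    refine Finset.prod_congr rfl fun j _ => ?_
    rw [← pow_add, Pi.add_apply, ZMod.val_add, ← pow_eq_pow_mod _ (en.symm j).2]
  have hfs : ∀ τ : PT ⟶ T, τ ^ n = 1 → ∃ a, f a = τ := fun τ hτ => by
    refine ⟨Pi.single (en ⟨τ, hτ⟩) 1, ?_⟩
    show ∏ j, _ = τ
    rw [Finset.prod_eq_single (en ⟨τ, hτ⟩) (fun j _ hj => by rw [Pi.single_eq_of_ne hj, ZMod.val_zero, pow_zero])
      (fun h => absurd (Finset.mem_univ _) h), Pi.single_eq_same, Equiv.symm_apply_apply]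
    rcases eq_or_ne n 1 with h1 | h1
    · have hτ1 : τ = 1 := by rw [h1, pow_one] at hτ; exact hτ
      show τ ^ _ = τ
      rw [hτ1, one_pow]
    · haveI : Fact (1 < n) := ⟨by have := NeZero.pos n; omega⟩
      rw [ZMod.val_one, pow_one]
  -- the torus lies in the subgroup
  obtain ⟨t, ht⟩ := (hC.2.2 T iT).mpr fun X' a h => by
    rw [← MonObj.mul_comp, ← MonObj.mul_comp, GrpSchLib.MultTypeComm.points_comm hTm a h]
  haveI : IsMonHom (t ≫ c) := MaxTorusBC.isMonHom_of_mono (t ≫ c) i (by rw [Category.assoc, ht]; infer_instance)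
  refine ⟨n, hn0, ⟨m, rfl⟩, r, fun a => f a ≫ t ≫ c, fun a b => by rw [← MonObj.mul_comp, ← hfadd], fun Y g hg => ?_,
    fun Y h a => by
      simpa only [Category.id_comp, Category.assoc, ht] using (hC.2.2 Y (h ≫ c ≫ i)).mp ⟨h, rfl⟩ Y (𝟙 Y) (toUnit Y ≫ f a)⟩
  have hg' : ∀ a, g * (toUnit Y ≫ f a ≫ iT) = (toUnit Y ≫ f a ≫ iT) * g := fun a => by
    simpa only [Category.assoc, ht] using hg a
  have hxn : ∀ a, (f a ≫ iT) ^ n = 1 := fun a => by
    refine (tuple_props (fun v => f v ≫ iT) ?_ fun u v => by rw [hfadd, MonObj.mul_comp]).1 a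
    show f 0 ≫ iT = 1
    have h := hfadd 0 0
    rw [add_zero] at h
    rw [show f 0 = 1 from mul_eq_left.mp h.symm, MonObj.one_comp]
  obtain ⟨Z, _, jZ, hjm, hjc, hZs, hZ⟩ := exists_cent hn (fun a => f a ≫ iT) hxn fun a b => by
    rw [← MonObj.mul_comp, ← MonObj.mul_comp, mul_comm]
  haveI := hjm; haveI := hjc; haveI := hZs
  -- the points of the centraliser of the torsion centralise the torus
  haveI : IsReduced Z.left := isReduced_of_smooth_field Z.hom
  haveI : JacobsonSpace Z.left := LocallyOfFiniteType.jacobsonSpace Z.hom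
  obtain ⟨l, hl⟩ := H23.RedSub.exists_lift_closed jZ.left c₀.left (by
    have hcl : closedPoints Z.left ⊆ jZ.left ⁻¹' Set.range c₀.left := fun x hx => by
      obtain ⟨p, rfl⟩ := exists_cp (hx : IsClosed {x})
      let b := 𝟙 (Spec (CommRingCat.of k))
      let E : (Over.map b).obj PT ⟶ PT := Over.homMk (𝟙 _) rfl
      let E' : PT ⟶ (Over.map b).obj PT := Over.homMk (𝟙 _) rfl
      have hE : E ≫ E' = 𝟙 _ := Over.OverMorphism.ext (Category.comp_id _)
      obtain ⟨g₀, hg₀⟩ := (DSPtsLib.theta_bijective (g := b)).2 (E ≫ p ≫ jZ)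
      obtain ⟨w, hw⟩ := hm k b g₀ fun τ hτ => by
        obtain ⟨τ', hτ''⟩ : ∃ τ', τ' = E' ≫ DSPtsLib.theta b τ := ⟨_, rfl⟩
        have hτ₁ : DSPtsLib.theta b τ = E ≫ τ' := by rw [hτ'', ← Category.assoc, hE, Category.id_comp]
        have hτ' : τ' ^ n = 1 := by
          rw [hτ'', ← comp_npow', ← theta_npow, hτ, HomUnitLocus.theta_one, MonObj.comp_one]
        obtain ⟨a, ha⟩ := hfs τ' hτ'
        have h := (hZ _ (p ≫ jZ)).mp ⟨p, rfl⟩ a
        rw [toUnit_unique (toUnit PT) (𝟙 _), Category.id_comp, ha] at h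
        apply (DSPtsLib.theta_bijective b).1
        rw [DSPtsLib.theta_mul, DSPtsLib.theta_mul, theta_map', hg₀, hτ₁, Category.assoc E τ' iT,
          ← MonObj.comp_mul, ← MonObj.comp_mul, h]
      refine ⟨(DSPtsLib.theta b w).left (IsLocalRing.closedPoint k), ?_⟩
      rw [← Scheme.Hom.comp_apply, ← TorsionCent.theta_left_map, hw, hg₀]
      simp only [E, Over.comp_left, Over.homMk_left, Category.id_comp, Scheme.Hom.comp_apply]
      rfl
    have hclosed : IsClosed (jZ.left ⁻¹' Set.range c₀.left) :=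
      c₀.left.isClosedEmbedding.isClosed_range.preimage jZ.left.continuous
    rintro _ ⟨x, rfl⟩
    exact hclosed.closure_subset_iff.mpr hcl ((closure_closedPoints (X := Z.left)).symm ▸ Set.mem_univ x))
  obtain ⟨z, hz⟩ := (hZ Y g).mpr hg'
  obtain ⟨w, hw⟩ := (hC.2.2 Y g).mpr ((hc₀.2.2 Y g).mp ⟨z ≫ (Over.homMk l (by
    rw [← Over.w c₀, reassoc_of% hl, Over.w jZ]) : Z ⟶ C₀), by
      rw [Category.assoc, show (Over.homMk l _ : Z ⟶ C₀) ≫ c₀ = jZ from Over.OverMorphism.ext hl, hz]⟩)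
  exact ⟨w ≫ c, by rw [Category.assoc, hw]⟩

end Groth.Agent.CartanIn
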