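import Groth.Agent.CartanIn.Commute

/-!
# Factoring through a smooth subgroup containing Cartan subgroups
-/

set_option backward.isDefEq.respectTransparency false
set_option backward.isDefEq.respectTransparency.types false
set_option linter.style.haveILetI false
set_option autoImplicit false
set_option maxHeartbeats 1000000
set_option synthInstance.maxHeartbeats 200000

universe u

open CategoryTheory Limits MonoidalCategory CartesianMonoidalCategory MonObj AlgebraicGeometry

namespace Groth.Agent.CartanIn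

open GrpSchLib GrpLimLib TorsionCent AGFLib

variable {S : Scheme.{u}}

/-- Near a point, an open subscheme on which a prime not equal to the residue characteristic is invertible. -/
theorem exists_prime_open (s : S) : ∃ (U : S.Opens) (q : ℕ), s ∈ U ∧ q.Prime ∧ IsUnit (q : Γ((U : Scheme.{u}), ⊤)) ∧
    (q : AlgebraicClosure (S.residueField s)) ≠ 0 := by
  obtain ⟨V, hV, hsV, -⟩ := exists_isAffineOpen_mem_and_subset (show s ∈ (⊤ : S.Opens) from trivial)
  obtain ⟨q, hq, hqs⟩ : ∃ q : ℕ, q.Prime ∧ (q : S.residueField s) ≠ 0 := by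
    by_cases h2 : ((2 : ℕ) : S.residueField s) = 0
    · refine ⟨3, Nat.prime_three, fun h3 => one_ne_zero (α := S.residueField s) ?_⟩
      have h : ((3 : ℕ) : S.residueField s) = ((2 : ℕ) : S.residueField s) + 1 := by
        rw [← Nat.cast_one (R := S.residueField s), ← Nat.cast_add]
      rw [h3, h2, zero_add] at h
      exact h.symm
    · exact ⟨2, Nat.prime_two, h2⟩
  refine ⟨S.basicOpen (q : Γ(S, V)), q, ?_, hq, ?_, ?_⟩
  · rw [← Scheme.evaluation_ne_zero_iff_mem_basicOpen (x := s) (hx := hsV), map_natCast]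
    exact hqs
  · have h := (AlgebraicGeometry.RingedSpace.isUnit_res_basicOpen S.toLocallyRingedSpace.toRingedSpace
      (q : Γ(S, V))).map (S.basicOpen (q : Γ(S, V))).topIso.inv.hom
    rw [map_natCast, map_natCast] at h
    exact h
  · rw [← map_natCast (algebraMap (S.residueField s) (AlgebraicClosure (S.residueField s)))]
    exact fun h => hqs ((algebraMap _ _).injective (h.trans (map_zero _).symm))

variable {G H K : Over S} [GrpObj G] [GrpObj H] [Smooth G.hom] [IsSeparated G.hom] [QuasiCompact G.hom]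
  [Smooth H.hom] [IsSeparated H.hom] [QuasiCompact H.hom]

/-- Points commuting with a subgroup containing a Cartan subgroup of a geometric fibre lie in it over that
fibre. -/
theorem exists_fac_fibre (i : H ⟶ G) [IsMonHom i] {s : S}
    {C' : Over (Spec (CommRingCat.of (AlgebraicClosure (S.residueField s))))} [GrpObj C']
    {c' : C' ⟶ Red.geomFibre s H} (hC : SGA3x.IsCartanOver _ (c' ≫ (Over.pullback (Red.geomPt s)).map i))
    (Y : Over (Spec (CommRingCat.of (AlgebraicClosure (S.residueField s))))) (g : (Over.map (Red.geomPt s)).obj Y ⟶ G)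
    (hg : ∀ (Y' : Over S) (t : Y' ⟶ (Over.map (Red.geomPt s)).obj Y) (h : Y' ⟶ H),
      (t ≫ g) * (h ≫ i) = (h ≫ i) * (t ≫ g)) : ∃ h, h ≫ i = g := by
  let b := Red.geomPt s
  haveI : (Over.pullback b).IsRightAdjoint := (Over.mapPullbackAdj b).isRightAdjoint
  obtain ⟨hcm, hcmono, T, _, iT, hT, hcent⟩ := hC
  haveI := hcm; haveI := hcmono; haveI := hT.1
  have hTm := TorusQI.isMultTypeFT_of_isTorus hT.2.2.1
  obtain ⟨t, ht⟩ := (hcent.2.2 T iT).mpr fun X' a h => by
    rw [← MonObj.mul_comp, ← MonObj.mul_comp, GrpSchLib.MultTypeComm.points_comm hTm a h]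
  obtain ⟨g₀, hg₀⟩ := (DSPtsLib.theta_bijective (g := b)).2 g
  obtain ⟨w, hw⟩ := (hcent.2.2 Y g₀).mpr fun Y' a τ => by
    have e : τ ≫ iT = (τ ≫ t ≫ c') ≫ (Over.pullback b).map i := by
      rw [Category.assoc τ, Category.assoc t]; exact congrArg (τ ≫ ·) ht.symm
    rw [e]
    apply (DSPtsLib.theta_bijective b).1
    rw [DSPtsLib.theta_mul, DSPtsLib.theta_mul, DSPtsLib.theta_comp, theta_map', hg₀]
    exact hg _ _ _
  exact ⟨DSPtsLib.theta b (w ≫ c'), by rw [← theta_map', Category.assoc, hw, hg₀]⟩

/-- What commutes with a smooth subgroup whose geometric fibres contain Cartan subgroups factors through it. -/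
theorem exists_factor (i : H ⟶ G) [IsMonHom i] [Mono i]
    (hHC : ∀ s : S, ∃ (C' : Over (Spec (CommRingCat.of (AlgebraicClosure (S.residueField s))))) (_ : GrpObj C')
      (c' : C' ⟶ Red.geomFibre s H), SGA3x.IsCartanOver _ (c' ≫ (Over.pullback (Red.geomPt s)).map i))
    (z : K ⟶ G) (hc : ∀ (Y : Over S) (x : Y ⟶ K) (h : Y ⟶ H), (x ≫ z) * (h ≫ i) = (h ≫ i) * (x ≫ z)) :
    ∃ f, f ≫ i = z := by
  classical
  let P : Over S := Over.mk (pullback.fst z.left i.left ≫ K.hom)
  let p : P ⟶ K := Over.homMk (pullback.fst z.left i.left) rfl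
  let hP : P ⟶ H := Over.homMk (pullback.snd z.left i.left) (by
    show pullback.snd z.left i.left ≫ H.hom = pullback.fst z.left i.left ≫ K.hom
    rw [← Over.w z, ← Over.w i, ← Category.assoc, ← pullback.condition, Category.assoc])
  have sq : IsPullback p hP z i :=
    IsPullback.of_map (Over.forget _) (Over.OverMorphism.ext pullback.condition) (IsPullback.of_hasPullback _ _)
  haveI : Mono i.left := inferInstance
  haveI : Mono p.left := inferInstanceAs (Mono (pullback.fst z.left i.left))
  haveI : QuasiCompact i.left := by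
    haveI : QuasiCompact (i.left ≫ G.hom) := by rw [Over.w]; infer_instance
    exact QuasiCompact.of_comp i.left G.hom
  haveI : QuasiCompact p.left := inferInstanceAs (QuasiCompact (pullback.fst z.left i.left))
  -- surjectivity
  haveI : Surjective p.left := ⟨fun k => by
    let s := K.hom k
    let b := Red.geomPt s
    obtain ⟨C', _, c', hC⟩ := hHC s
    let u := DSPtsLib.theta b (𝟙 ((Over.pullback b).obj K))
    obtain ⟨h, hh⟩ := exists_fac_fibre i hC _ (u ≫ z) fun Y' t h => by
      rw [← Category.assoc]; exact hc Y' (t ≫ u) h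
    obtain ⟨k', hk', -⟩ := Scheme.Pullback.exists_preimage_pullback (f := K.hom) (g := b) k
      (IsLocalRing.closedPoint _) (by
        show s = _
        rw [Scheme.Hom.comp_apply]
        exact (Scheme.fromSpecResidueField_apply s _).symm)
    refine ⟨(sq.lift u h hh.symm).left k', ?_⟩
    rw [← Scheme.Hom.comp_apply, ← Over.comp_left, sq.lift_fst, DSPtsLib.theta_left]
    exact hk'⟩
  -- flatness
  haveI : Flat p.left := Flat.of_stalkMap _ fun y => by
    let s := P.hom y
    let b := Red.geomPt s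
    obtain ⟨U, q, hsU, hq, hqU, hqs⟩ := exists_prime_open s
    obtain ⟨C', _, c', hC⟩ := hHC s
    haveI : (Over.pullback b).IsRightAdjoint := (Over.mapPullbackAdj b).isRightAdjoint
    haveI : Smooth (Red.geomFibre s G).hom := inferInstanceAs (Smooth (pullback.snd G.hom b))
    haveI : IsSeparated (Red.geomFibre s G).hom := inferInstanceAs (IsSeparated (pullback.snd G.hom b))
    haveI : QuasiCompact (Red.geomFibre s G).hom := inferInstanceAs (QuasiCompact (pullback.snd G.hom b))
    obtain ⟨n, hn0, ⟨m, hnm⟩, r, y₀, hadd, hy₀, -⟩ :=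
      exists_torsion_tuple ((Over.pullback b).map i) c' hC q hq hqs
    haveI := hn0
    have hnU : IsUnit (n : Γ((U : Scheme.{u}), ⊤)) := by rw [hnm, Nat.cast_pow]; exact hqU.pow m
    haveI : Smooth (Red.bc U.ι H).hom := inferInstanceAs (Smooth (pullback.snd H.hom U.ι))
    haveI : IsSeparated (Red.bc U.ι H).hom := inferInstanceAs (IsSeparated (pullback.snd H.hom U.ι))
    haveI : QuasiCompact (Red.bc U.ι H).hom := inferInstanceAs (QuasiCompact (pullback.snd H.hom U.ι))
    obtain ⟨𝓧, xU, h𝓧, -, -, hx0, hxadd, hxuniv⟩ := exists_homScheme (G := Red.bc U.ι H) hnU r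
    haveI := h𝓧
    let X : Over S := (Over.map U.ι).obj 𝓧
    haveI : Flat X.hom := inferInstanceAs (Flat (𝓧.hom ≫ U.ι))
    let x : (Fin r → ZMod n) → (X ⟶ H) := fun v => DSPtsLib.theta U.ι (xU v)
    have hx := tuple_props x (by simp only [x, hx0]; exact HomUnitLocus.theta_one _ _)
      (fun v v' => by simp only [x, hxadd, DSPtsLib.theta_mul])
    have hsr : Set.range b ⊆ Set.range U.ι := by
      rw [Scheme.Opens.range_ι]
      rintro _ ⟨pt, rfl⟩
      show b pt ∈ U
      rw [show b pt = s from Scheme.fromSpecResidueField_apply s _]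
      exact hsU
    let b' := IsOpenImmersion.lift U.ι b hsr
    have hb' : b' ≫ U.ι = b := IsOpenImmersion.lift_fac _ _ _
    let A : Over S := (Over.map b).obj (𝟙_ (Over (Spec (CommRingCat.of (AlgebraicClosure (S.residueField s))))))
    let A' : Over (U : Scheme.{u}) := Over.mk b'
    let j : (Over.map U.ι).obj A' ⟶ A := Over.homMk (𝟙 _) (by
      show 𝟙 _ ≫ 𝟙 _ ≫ b = b' ≫ U.ι
      rw [hb', Category.id_comp, Category.id_comp])
    let j' : A ⟶ (Over.map U.ι).obj A' := Over.homMk (𝟙 _) (by
      show 𝟙 _ ≫ b' ≫ U.ι = 𝟙 _ ≫ b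
      rw [hb'])
    have hjj : j' ≫ j = 𝟙 A := Over.OverMorphism.ext (Category.comp_id _)
    choose fA hfA using fun v => (DSPtsLib.theta_bijective (g := U.ι) (Y := A') (H := H)).2
      (j ≫ DSPtsLib.theta b (y₀ v))
    obtain ⟨L, hL⟩ := hxuniv A' fA fun v v' => (DSPtsLib.theta_bijective U.ι).1 (by
      rw [DSPtsLib.theta_mul, hfA, hfA, hfA, hadd, DSPtsLib.theta_mul, MonObj.comp_mul])
    let a : A ⟶ X := j' ≫ (Over.map U.ι).map L
    have hax : ∀ v, a ≫ x v = DSPtsLib.theta b (y₀ v) := fun v => by
      simp only [a, x, Category.assoc, ← DSPtsLib.theta_comp, hL, hfA, reassoc_of% hjj]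
    have hnX : IsUnit (n : Γ(X.left, ⊤)) := by
      rw [← map_natCast 𝓧.hom.appTop.hom]
      exact hnU.map _
    refine flat_stalk_of_level i hc sq hnX x hx.1 hx.2 b a (fun Y π g hg => ?_) y ?_
    · let Y₀ : Over (Spec (CommRingCat.of (AlgebraicClosure (S.residueField s)))) := Over.mk π.left
      have hπ : π.left ≫ b = Y.hom := by
        have h := Over.w π
        exact (congrArg (fun t => π.left ≫ t) (Category.id_comp b)).symm.trans h
      let e : (Over.map b).obj Y₀ ⟶ Y := Over.homMk (𝟙 _) (by
        show 𝟙 _ ≫ Y.hom = π.left ≫ b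
        rw [hπ, Category.id_comp])
      let e' : Y ⟶ (Over.map b).obj Y₀ := Over.homMk (𝟙 _) (by
        show 𝟙 _ ≫ π.left ≫ b = Y.hom
        rw [Category.id_comp, hπ])
      have hee : e' ≫ e = 𝟙 Y := Over.OverMorphism.ext (Category.comp_id _)
      have heπ : e ≫ π = (Over.map b).map (toUnit Y₀) := Over.OverMorphism.ext (by
        simp only [Over.comp_left, e, Over.homMk_left, Over.map_map_left, Category.id_comp]
        exact ((Category.comp_id _).symm.trans (Over.w (toUnit Y₀))).symm)
      obtain ⟨g₀, hg₀⟩ := (DSPtsLib.theta_bijective (g := b)).2 (e ≫ g)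
      obtain ⟨h₀, hh₀⟩ := hy₀ Y₀ g₀ fun v => (DSPtsLib.theta_bijective b).1 (by
        have h := congrArg (e ≫ ·) (hg v)
        simp only [MonObj.comp_mul, reassoc_of% heπ, reassoc_of% hax v] at h
        rw [DSPtsLib.theta_mul, DSPtsLib.theta_mul, DSPtsLib.theta_comp, theta_map', hg₀]
        exact h)
      exact ⟨e' ≫ DSPtsLib.theta b h₀, by
        rw [Category.assoc, ← theta_map', hh₀, hg₀, reassoc_of% hee]⟩
    · show s = _
      rw [Scheme.Hom.comp_apply]
      exact (Scheme.fromSpecResidueField_apply s _).symm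
  haveI : IsIso p.left := AlgSpDec.SchDenseFlat.isIso_of_flat_surjective_mono p.left
  haveI : IsIso ((Over.forget _).map p) := ‹IsIso p.left›
  haveI : IsIso p := isIso_of_reflects_iso p (Over.forget _)
  exact ⟨inv p ≫ hP, by rw [Category.assoc, ← sq.w, IsIso.inv_hom_id_assoc]⟩

end Groth.Agent.CartanIn
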