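import Groth.Agent.CartanIn.Torus
import Groth.Agent.TorsionCent.Global

/-!
# Maximal tori of a subgroup containing Cartan subgroups exist locally when those of the group do
-/

set_option backward.isDefEq.respectTransparency false
set_option backward.isDefEq.respectTransparency.types false
set_option linter.style.haveILetI false
set_option autoImplicit false
set_option maxHeartbeats 1000000
set_option synthInstance.maxHeartbeats 200000

universe u

open CategoryTheory Limits MonoidalCategory CartesianMonoidalCategory MonObj AlgebraicGeometry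

namespace Groth.Agent.CartanIn

open GrpSchLib GrpLimLib TorsionCent AGFLib MaxTorTransp

variable {S : Scheme.{u}}

/-- An étale covering carrying a maximal torus is an fpqc one. -/
theorem fpqcLocally_of_etaleLocally {G : Over S} [GrpObj G] (h : SGA3x.HasMaxTorusEtaleLocally G) :
    SGA3x.HasMaxTorusFpqcLocally G := by
  obtain ⟨S', f, hf, hfs, hT⟩ := h
  haveI := hf; haveI := hfs
  refine ⟨S', f, inferInstance, inferInstance, fun V hV => ?_, hT⟩
  haveI : Smooth f := inferInstance
  have hcov : (V : Set S) ⊆ ⋃ W : {W : S'.affineOpens // (W : S'.Opens) ≤ f ⁻¹ᵁ V}, f '' (W.1.1 : Set S') := by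
    intro x hx
    obtain ⟨y, rfl⟩ := f.surjective x
    obtain ⟨W, hW, hyW, hle⟩ := exists_isAffineOpen_mem_and_subset (U := f ⁻¹ᵁ V) (x := y) hx
    exact Set.mem_iUnion.mpr ⟨⟨⟨W, hW⟩, hle⟩, y, hyW, rfl⟩
  obtain ⟨F, hF⟩ := hV.isCompact.elim_finite_subcover _ (fun W => f.isOpenMap _ W.1.1.isOpen) hcov
  refine ⟨⨆ W ∈ F, W.1.1, ?_, ?_⟩
  · simp only [TopologicalSpace.Opens.coe_iSup]
    exact F.isCompact_biUnion fun W _ => W.1.2.isCompact
  · simp only [TopologicalSpace.Opens.coe_iSup, Set.image_iUnion]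
    refine Set.Subset.antisymm ?_ hF
    simp only [Set.iUnion_subset_iff, Set.image_subset_iff]
    exact fun W _ => W.2

variable {G H : Over S} [GrpObj G] [GrpObj H] [Smooth G.hom] [IsSeparated G.hom] [QuasiCompact G.hom]
  [Smooth H.hom] [QuasiCompact H.hom]

/-- Maximal tori of a subgroup containing Cartan subgroups exist étale locally when those of the group do. -/
theorem etale_locally_sub (i : H ⟶ G) [IsMonHom i] [Mono i]
    (hHC : ∀ s : S, ∃ (C' : Over (Spec (CommRingCat.of (AlgebraicClosure (S.residueField s))))) (_ : GrpObj C')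
      (c' : C' ⟶ Red.geomFibre s H), SGA3x.IsCartanOver _ (c' ≫ (Over.pullback (Red.geomPt s)).map i))
    (hG : SGA3x.HasMaxTorusEtaleLocally G) : SGA3x.HasMaxTorusEtaleLocally H := by
  obtain ⟨S', f, hf, hfs, T, _, iT, hT⟩ := hG
  haveI := hf; haveI := hfs; haveI := hT.1; haveI := hT.2.1
  haveI : (Over.pullback f).IsRightAdjoint := (Over.mapPullbackAdj f).isRightAdjoint
  haveI : Smooth (Red.bc f G).hom := inferInstanceAs (Smooth (pullback.snd G.hom f))
  haveI : IsSeparated (Red.bc f G).hom := inferInstanceAs (IsSeparated (pullback.snd G.hom f))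
  haveI : QuasiCompact (Red.bc f G).hom := inferInstanceAs (QuasiCompact (pullback.snd G.hom f))
  haveI : Smooth (Red.bc f H).hom := inferInstanceAs (Smooth (pullback.snd H.hom f))
  obtain ⟨S'', q, hq, hqs, g, b, hb⟩ := exists_etale_conj iT hT.2.2.1 ((Over.pullback f).map i) fun s' => by
    obtain ⟨s, σ, hσ⟩ := exists_geom_factor (Red.geomPt s' ≫ f)
    obtain ⟨C', _, c', hC⟩ := hHC s
    obtain ⟨T₀, _, t₀, h₀, -⟩ := exists_torus_in ((Over.pullback (Red.geomPt s)).map i) hC
    haveI : Smooth (Red.geomFibre s G).hom := inferInstanceAs (Smooth (pullback.snd G.hom (Red.geomPt s)))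
    haveI : QuasiCompact (Red.geomFibre s G).hom :=
      inferInstanceAs (QuasiCompact (pullback.snd G.hom (Red.geomPt s)))
    haveI : IsSeparated (Red.geomFibre s G).hom :=
      inferInstanceAs (IsSeparated (pullback.snd G.hom (Red.geomPt s)))
    haveI : Smooth (Red.geomFibre s' (Red.bc f G)).hom :=
      inferInstanceAs (Smooth (pullback.snd (Red.bc f G).hom (Red.geomPt s')))
    haveI : QuasiCompact (Red.geomFibre s' (Red.bc f G)).hom :=
      inferInstanceAs (QuasiCompact (pullback.snd (Red.bc f G).hom (Red.geomPt s')))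
    haveI := isMonHom_cmp_hom hσ G
    haveI : IsMonHom (cmp (rfl : Red.geomPt s' ≫ f = Red.geomPt s' ≫ f) G).hom := isMonHom_cmp_hom _ G
    haveI : IsMonHom (cmp (rfl : Red.geomPt s' ≫ f = Red.geomPt s' ≫ f) G).inv :=
      TorsionCent.isMonHom_inv_of _
    have h₁ : Red.IsMaximalTorus ((((Over.pullback σ).map (t₀ ≫ (Over.pullback (Red.geomPt s)).map i)) ≫
        (cmp hσ G).hom) ≫ (cmp (rfl : Red.geomPt s' ≫ f = Red.geomPt s' ≫ f) G).inv) :=
      MaxTorCent.isMaximalTorus_comp_iso (MaxTorCent.isMaximalTorus_comp_iso (MaxTorCent.isMaximalTorus_bc h₀ σ) _) _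
    obtain ⟨g, φ, hφ⟩ := exists_conj_maxTorus
      (SolvGrp.isMaxTorus_of_isMaximalTorus (MaxTorCent.isMaximalTorus_geomFibre hT s'))
      (SolvGrp.isMaxTorus_of_isMaximalTorus h₁)
    refine ⟨g, φ.hom ≫ ((Over.pullback σ).map t₀ ≫ (cmp hσ H).hom) ≫
      (cmp (rfl : Red.geomPt s' ≫ f = Red.geomPt s' ≫ f) H).inv, ?_⟩
    rw [MaxTorCent.comp_conjEnd]
    refine Eq.trans ?_ hφ
    simp only [Category.assoc]
    congr 1
    simp only [Functor.map_comp, Category.assoc]
    congr 1
    rw [← Category.assoc ((Over.pullback σ).map ((Over.pullback (Red.geomPt s)).map i)),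
      MaxTorusBC.cmp_naturality hσ i, Category.assoc (cmp hσ H).hom]
    congr 1
    rw [Iso.inv_comp_eq, ← Category.assoc, Iso.eq_comp_inv]
    exact MaxTorusBC.cmp_naturality _ i
  haveI := hq; haveI := hqs
  haveI : (Over.pullback q).IsRightAdjoint := (Over.mapPullbackAdj q).isRightAdjoint
  haveI := isMonHom_cmp_hom (rfl : q ≫ f = q ≫ f) G
  haveI : (Over.pullback (q ≫ f)).IsRightAdjoint := (Over.mapPullbackAdj (q ≫ f)).isRightAdjoint
  refine ⟨S'', q ≫ f, inferInstance, inferInstance, Red.bc q T, inferInstance,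
    b ≫ (cmp (rfl : q ≫ f = q ≫ f) H).hom, TorsionCent.isMaximalTorus_of_comp _ ((Over.pullback (q ≫ f)).map i) ?_⟩
  rw [Category.assoc, ← MaxTorusBC.cmp_naturality, ← Category.assoc, hb]
  exact MaxTorCent.isMaximalTorus_comp_iso
    (MaxTorCent.isMaximalTorus_comp_iso (MaxTorCent.isMaximalTorus_bc hT q) (MaxTorCent.conjEnd g)) _

end Groth.Agent.CartanIn
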