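import Groth.Agent.CartanIn.TransTorus

/-!
# A subgroup containing Cartan subgroups is open in its normaliser
-/

set_option backward.isDefEq.respectTransparency false
set_option backward.isDefEq.respectTransparency.types false
set_option linter.style.haveILetI false
set_option autoImplicit false
set_option maxHeartbeats 1000000
set_option synthInstance.maxHeartbeats 200000

universe u

open CategoryTheory Limits MonoidalCategory CartesianMonoidalCategory MonObj AlgebraicGeometry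

namespace Groth.Agent.CartanIn

open GrpSchLib TorsionCent MultTypeLib.CosetLift

variable {S S' : Scheme.{u}}

/-- The centraliser in `H` of commuting torsion sections of `H` is open in their centraliser in `G`. -/
def CutTuple {G H : Over S} [GrpObj G] [GrpObj H] (i : H ⟶ G) : Prop :=
  ∃ (n r : ℕ) (_ : NeZero n), IsUnit (n : Γ(S, ⊤)) ∧ ∃ (x : (Fin r → ZMod n) → (𝟙_ (Over S) ⟶ H)),
    (∀ a b, x (a + b) = x a * x b) ∧ ∃ (ZH ZG : Over S) (_ : GrpObj ZH) (_ : GrpObj ZG) (jH : ZH ⟶ H) (jG : ZG ⟶ G),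
      IsMonHom jH ∧ IsMonHom jG ∧ Mono jG ∧
      (∀ (Y : Over S) (g : Y ⟶ G),
        (∃ z, z ≫ jG = g) ↔ ∀ a, g * (toUnit Y ≫ x a ≫ i) = (toUnit Y ≫ x a ≫ i) * g) ∧
      ∃ w : ZH ⟶ ZG, IsOpenImmersion w.left ∧ w ≫ jG = jH ≫ i

theorem cutTuple_bc (f : S' ⟶ S) {G H : Over S} [GrpObj G] [GrpObj H] {i : H ⟶ G} (h : CutTuple i) :
    CutTuple ((Over.pullback f).map i) := by
  obtain ⟨n, r, hn0, hn, x, hadd, ZH, ZG, _, _, jH, jG, hjHm, hjGm, hjG, hZ, w, hw, hwc⟩ := h
  haveI := hjHm; haveI := hjGm; haveI := hjG; haveI := hw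
  haveI : (Over.pullback f).IsRightAdjoint := (Over.mapPullbackAdj f).isRightAdjoint
  refine ⟨n, r, hn0, by rw [← map_natCast f.appTop.hom]; exact hn.map _, fun a => bcSec f (x a),
    fun a b => (congrArg (bcSec f) (hadd a b)).trans (bcSec_mul f _ _), Red.bc f ZH, Red.bc f ZG, inferInstance,
    inferInstance, (Over.pullback f).map jH, (Over.pullback f).map jG, inferInstance, inferInstance, inferInstance,
    fun Y g => ?_, (Over.pullback f).map w, ?_, by rw [← Functor.map_comp, hwc, Functor.map_comp]⟩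
  · simpa only [bcSec_map] using cent_bc f jG (fun a => x a ≫ i) hZ Y g
  · exact MorphismProperty.of_isPullback (P := @IsOpenImmersion) (MultTypeLib.FreeAction.isPullback_map f w) hw

set_option maxHeartbeats 2000000 in
/-- Smooth locally a subgroup containing Cartan subgroups has sections cutting it out near the unit. -/
theorem exists_cut_cover {G H : Over S} [GrpObj G] [GrpObj H] [Smooth G.hom] [IsSeparated G.hom] [QuasiCompact G.hom]
    [Smooth H.hom] (i : H ⟶ G) [IsMonHom i] [Mono i]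
    (hHC : ∀ s : S, ∃ (C' : Over (Spec (CommRingCat.of (AlgebraicClosure (S.residueField s))))) (_ : GrpObj C')
      (c' : C' ⟶ Red.geomFibre s H), SGA3x.IsCartanOver _ (c' ≫ (Over.pullback (Red.geomPt s)).map i))
    (s : S) :
    ∃ (X : Over S) (W : X.left.Opens), Smooth X.hom ∧ (∃ x ∈ W, X.hom x = s) ∧
      CutTuple ((Over.pullback W.ι).map ((Over.pullback X.hom).map i)) := by
  haveI : Mono i.left := inferInstanceAs (Mono ((Over.forget _).map i))
  haveI : IsSeparated H.hom := by rw [← Over.w i]; infer_instance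
  let b := Red.geomPt s
  let k := AlgebraicClosure (S.residueField s)
  haveI : (Over.pullback b).IsRightAdjoint := (Over.mapPullbackAdj b).isRightAdjoint
  obtain ⟨U, q, hsU, hq, hqU, hqs⟩ := exists_prime_open s
  haveI : Smooth (Red.geomFibre s G).hom := inferInstanceAs (Smooth (pullback.snd G.hom b))
  haveI : IsSeparated (Red.geomFibre s G).hom := inferInstanceAs (IsSeparated (pullback.snd G.hom b))
  haveI : QuasiCompact (Red.geomFibre s G).hom := inferInstanceAs (QuasiCompact (pullback.snd G.hom b))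
  obtain ⟨C', _, c', hC'⟩ := hHC s
  obtain ⟨n, hn0, ⟨m, hnm⟩, r, y₀, hadd₀, hy₀, -⟩ := exists_torsion_tuple ((Over.pullback b).map i) c' hC' q hq hqs
  haveI := hn0
  have hnU : IsUnit (n : Γ((U : Scheme.{u}), ⊤)) := by rw [hnm, Nat.cast_pow]; exact hqU.pow m
  haveI : Smooth (Red.bc U.ι H).hom := inferInstanceAs (Smooth (pullback.snd H.hom U.ι))
  haveI : IsSeparated (Red.bc U.ι H).hom := inferInstanceAs (IsSeparated (pullback.snd H.hom U.ι))
  obtain ⟨𝓧, xU, h𝓧, -, hx0, hxadd, hxuniv⟩ := exists_homScheme_lft (G := Red.bc U.ι H) hnU r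
  haveI := h𝓧
  let X : Over S := (Over.map U.ι).obj 𝓧
  haveI : Smooth X.hom := inferInstanceAs (Smooth (𝓧.hom ≫ U.ι))
  let xS : (Fin r → ZMod n) → (X ⟶ H) := fun v => DSPtsLib.theta U.ι (xU v)
  -- the point over `s`
  have hsr : Set.range b ⊆ Set.range U.ι := by
    rw [Scheme.Opens.range_ι]
    rintro _ ⟨pt, rfl⟩
    show b pt ∈ U
    rw [show b pt = s from Scheme.fromSpecResidueField_apply s _]
    exact hsU
  let b' := IsOpenImmersion.lift U.ι b hsr
  have hb' : b' ≫ U.ι = b := IsOpenImmersion.lift_fac _ _ _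
  let A : Over S := (Over.map b).obj (𝟙_ (Over (Spec (CommRingCat.of k))))
  let A' : Over (U : Scheme.{u}) := Over.mk b'
  let j : (Over.map U.ι).obj A' ⟶ A := Over.homMk (𝟙 _) (by
    show 𝟙 _ ≫ 𝟙 _ ≫ b = b' ≫ U.ι
    rw [hb', Category.id_comp, Category.id_comp])
  let j' : A ⟶ (Over.map U.ι).obj A' := Over.homMk (𝟙 _) (by
    show 𝟙 _ ≫ b' ≫ U.ι = 𝟙 _ ≫ b
    rw [hb'])
  have hjj : j' ≫ j = 𝟙 A := Over.OverMorphism.ext (Category.comp_id _)
  choose fA hfA using fun v => (DSPtsLib.theta_bijective (g := U.ι) (Y := A') (H := H)).2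
    (j ≫ DSPtsLib.theta b (y₀ v))
  obtain ⟨L, hL⟩ := hxuniv A' fA fun v v' => (DSPtsLib.theta_bijective U.ι).1 (by
    rw [DSPtsLib.theta_mul, hfA, hfA, hfA, hadd₀, DSPtsLib.theta_mul, MonObj.comp_mul])
  let a : A ⟶ X := j' ≫ (Over.map U.ι).map L
  have hax : ∀ v, a ≫ xS v = DSPtsLib.theta b (y₀ v) := fun v => by
    simp only [a, xS, Category.assoc, ← DSPtsLib.theta_comp, hL, hfA, reassoc_of% hjj]
  -- what holds over that point
  have hfac : ∀ (Z' : Over S) (ψ : Z' ⟶ A) (g : Z' ⟶ G),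
      (∀ v, g * (ψ ≫ DSPtsLib.theta b (y₀ v) ≫ i) = (ψ ≫ DSPtsLib.theta b (y₀ v) ≫ i) * g) →
        ∃ h, h ≫ i = g := by
    intro Z' ψ g hg
    let Y₀ : Over (Spec (CommRingCat.of k)) := Over.mk ψ.left
    have hψ : ψ.left ≫ b = Z'.hom :=
      (congrArg (ψ.left ≫ ·) (Category.id_comp b)).symm.trans (Over.w ψ)
    let e : (Over.map b).obj Y₀ ⟶ Z' := Over.homMk (𝟙 _) (by
      show 𝟙 _ ≫ Z'.hom = ψ.left ≫ b
      rw [hψ, Category.id_comp])
    let e' : Z' ⟶ (Over.map b).obj Y₀ := Over.homMk (𝟙 _) (by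
      show 𝟙 _ ≫ ψ.left ≫ b = Z'.hom
      rw [Category.id_comp, hψ])
    have hee : e' ≫ e = 𝟙 Z' := Over.OverMorphism.ext (Category.comp_id _)
    have heψ : e ≫ ψ = (Over.map b).map (toUnit Y₀) := Over.OverMorphism.ext (Category.id_comp _)
    obtain ⟨g₀, hg₀⟩ := (DSPtsLib.theta_bijective (g := b)).2 (e ≫ g)
    obtain ⟨h₀, hh₀⟩ := hy₀ Y₀ g₀ fun v => (DSPtsLib.theta_bijective b).1 (by
      have h := congrArg (e ≫ ·) (hg v)
      simp only [MonObj.comp_mul, reassoc_of% heψ] at h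
      rw [DSPtsLib.theta_mul, DSPtsLib.theta_mul, DSPtsLib.theta_comp, theta_map', hg₀]
      exact h)
    exact ⟨e' ≫ DSPtsLib.theta b h₀, by rw [Category.assoc, ← theta_map', hh₀, hg₀, reassoc_of% hee]⟩
  -- over the space of tuples
  let h := X.hom
  haveI : (Over.pullback h).IsRightAdjoint := (Over.mapPullbackAdj h).isRightAdjoint
  let iX := (Over.pullback h).map i
  haveI : Smooth (Red.bc h H).hom := inferInstanceAs (Smooth (pullback.snd H.hom h))
  haveI : IsSeparated (Red.bc h H).hom := inferInstanceAs (IsSeparated (pullback.snd H.hom h))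
  haveI : Smooth (Red.bc h G).hom := inferInstanceAs (Smooth (pullback.snd G.hom h))
  haveI : IsSeparated (Red.bc h G).hom := inferInstanceAs (IsSeparated (pullback.snd G.hom h))
  let E : (Over.map h).obj (𝟙_ (Over X.left)) ⟶ X := Over.homMk (𝟙 _) rfl
  choose x' hx' using fun v => (DSPtsLib.theta_bijective (g := h) (Y := 𝟙_ (Over X.left)) (H := H)).2 (E ≫ xS v)
  have hx'add : ∀ v v', x' (v + v') = x' v * x' v' := fun v v' => (DSPtsLib.theta_bijective h).1 (by
    simp only [DSPtsLib.theta_mul, hx', xS, hxadd, MonObj.comp_mul])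
  have hnX : IsUnit (n : Γ(X.left, ⊤)) := by
    rw [← map_natCast 𝓧.hom.appTop.hom]
    exact hnU.map _
  have h0 : x' 0 = 1 := mul_eq_left.mp (show x' 0 * x' 0 = x' 0 by rw [← hx'add, add_zero])
  obtain ⟨hxn, hxc⟩ := tuple_props x' h0 hx'add
  obtain ⟨hgn, hgc⟩ := tuple_props (fun v => x' v ≫ iX) (by simp only [h0, MonObj.one_comp])
    fun v v' => by simp only [hx'add, MonObj.mul_comp]
  obtain ⟨ZH, _, jH, hjH, hjHc, hZHs, hZH⟩ := exists_cent hnX x' hxn hxc
  obtain ⟨ZG, _, jG, hjG, hjGc, hZGs, hZG⟩ := exists_cent hnX (fun v => x' v ≫ iX) hgn hgc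
  haveI := hjH; haveI := hjHc; haveI := hZHs; haveI := hjG; haveI := hjGc; haveI := hZGs
  haveI : Mono jH := haveI : Mono jH.left := inferInstance; Over.mono_of_mono_left _
  haveI : Mono jG := haveI : Mono jG.left := inferInstance; Over.mono_of_mono_left _
  obtain ⟨w, hw⟩ := (hZG ZH (jH ≫ iX)).mpr fun v => by
    rw [← Category.assoc (toUnit ZH), ← MonObj.mul_comp, ← MonObj.mul_comp,
      (hZH ZH jH).mp ⟨𝟙 _, Category.id_comp _⟩ v]
  haveI : Mono (w ≫ jG) := by rw [hw]; infer_instance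
  haveI : Mono w := mono_of_mono w jG
  haveI : IsMonHom w := MaxTorusBC.isMonHom_of_mono w jG (by rw [hw]; infer_instance)
  let α : Spec (CommRingCat.of k) ⟶ X.left := a.left
  have hiso : IsIso ((Over.pullback α).map w).left := isIso_pullback_map_of_points w α fun Z' π hπ β => by
    let ψ : (Over.map h).obj Z' ⟶ A := Over.homMk π (by
      show π ≫ A.hom = Z'.hom ≫ X.hom
      rw [← Over.w a, ← Category.assoc]
      exact congrArg (· ≫ X.hom) hπ)
    have hψ : ψ ≫ a = (Over.map h).map (toUnit Z') ≫ E :=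
      Over.OverMorphism.ext (hπ.trans (Category.comp_id _).symm)
    have hψx : ∀ v, DSPtsLib.theta h (toUnit Z' ≫ x' v) = ψ ≫ DSPtsLib.theta b (y₀ v) := fun v => by
      rw [DSPtsLib.theta_comp, hx', ← reassoc_of% hψ, hax]
    have hβ := (hZG Z' (β ≫ jG)).mp ⟨β, rfl⟩
    obtain ⟨h₁, hh₁⟩ := hfac _ ψ (DSPtsLib.theta h (β ≫ jG)) fun v => by
      have h2 := congrArg (DSPtsLib.theta h) (hβ v)
      rw [DSPtsLib.theta_mul, DSPtsLib.theta_mul, ← Category.assoc (toUnit Z'), theta_map', hψx, Category.assoc] at h2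
      exact h2
    obtain ⟨β', hβ'⟩ := (DSPtsLib.theta_bijective (g := h)).2 h₁
    have hβi : β' ≫ iX = β ≫ jG := (DSPtsLib.theta_bijective h).1 (by rw [theta_map', hβ', hh₁])
    obtain ⟨z, hz⟩ := (hZH Z' β').mpr fun v => by
      rw [← cancel_mono iX, MonObj.mul_comp, MonObj.mul_comp, hβi, Category.assoc]
      exact hβ v
    exact ⟨z, by rw [← cancel_mono jG, Category.assoc, hw, reassoc_of% hz, hβi]⟩
  -- the open subscheme
  obtain ⟨W, haW, hW, -⟩ := exists_nhd_openImmersion w α hiso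
  refine ⟨X, W, inferInstance, ⟨α (IsLocalRing.closedPoint k), haW, ?_⟩, ?_⟩
  · rw [← Scheme.Hom.comp_apply, show α ≫ X.hom = 𝟙 _ ≫ b from Over.w a, Category.id_comp]
    exact Scheme.fromSpecResidueField_apply s _
  haveI := isOpenImmersion_restrict w le_rfl hW
  haveI : (Over.pullback W.ι).IsRightAdjoint := (Over.mapPullbackAdj W.ι).isRightAdjoint
  refine ⟨n, r, hn0, by rw [← map_natCast W.ι.appTop.hom]; exact hnX.map _, fun v => bcSec W.ι (x' v),
    fun v v' => (congrArg (bcSec W.ι) (hx'add v v')).trans (bcSec_mul _ _ _), Red.bc W.ι ZH, Red.bc W.ι ZG,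
    inferInstance, inferInstance, (Over.pullback W.ι).map jH, (Over.pullback W.ι).map jG, inferInstance, inferInstance,
    inferInstance, fun Y g => by simpa only [bcSec_map] using cent_bc W.ι jG _ hZG Y g,
    (Over.pullback W.ι).map w, inferInstance, ?_⟩
  rw [← Functor.map_comp, hw, Functor.map_comp]

section Lift

variable {B : Type u} [CommRing B]

/-- A section normalising `H` which lies in `H` modulo a square zero ideal lies in it. -/
theorem mem_of_norm_lift {G H : Over (Spec (CommRingCat.of B))} [GrpObj G] [GrpObj H] [Smooth H.hom]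
    [IsSeparated H.hom] (i : H ⟶ G) [IsMonHom i] [Mono i] (hT : CutTuple i) (J : Ideal B) (hJ : J ^ 2 = ⊥)
    (g : 𝟙_ (Over (Spec (CommRingCat.of B))) ⟶ G) (hg : Into i i g)
    (h₀ : Over.mk (Spec.map (CommRingCat.ofHom (Ideal.Quotient.mk J))) ⟶ H) (h0 : toUnit _ ≫ g = h₀ ≫ i) :
    ∃ h, h ≫ i = g := by
  obtain ⟨n, r, hn0, hn, x, hadd, ZH, ZG, _, _, jH, jG, hjHm, hjGm, hjG, hZ, w, hw, hwc⟩ := hT
  haveI := hn0; haveI := hjHm; haveI := hjGm; haveI := hjG; haveI := hw
  haveI : IsMonHom w := MaxTorusBC.isMonHom_of_mono w jG (by rw [hwc]; infer_instance)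
  let Y₀ : Over (Spec (CommRingCat.of B)) := Over.mk (Spec.map (CommRingCat.ofHom (Ideal.Quotient.mk J)))
  let e₀ := toUnit Y₀
  let U := 𝟙_ (Over (Spec (CommRingCat.of B)))
  obtain ⟨h₁, hh₁⟩ := exists_section_lift J hJ h₀
  let g' := (h₁ ≫ i)⁻¹ * g
  have hg'0 : e₀ ≫ g' = 1 := by
    show toUnit _ ≫ g' = 1
    rw [MonObj.comp_mul, GrpObj.comp_inv, reassoc_of% hh₁, h0, inv_mul_cancel]
  have hconj : ∀ a, ∃ κ : U ⟶ H, g' * (x a ≫ i) * g'⁻¹ = κ ≫ i := fun a => by
    obtain ⟨κ, hκ⟩ := hg U (𝟙 _) (x a)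
    rw [Category.id_comp] at hκ
    refine ⟨h₁⁻¹ * κ * h₁, ?_⟩
    rw [MonObj.mul_comp, MonObj.mul_comp, GrpObj.inv_comp, ← hκ]
    show (h₁ ≫ i)⁻¹ * g * (x a ≫ i) * ((h₁ ≫ i)⁻¹ * g)⁻¹ = _
    group
  choose κ hκ using hconj
  have hκadd : ∀ a b, κ (a + b) = κ a * κ b := fun a b => by
    rw [← cancel_mono i, MonObj.mul_comp, ← hκ, ← hκ, ← hκ, hadd, MonObj.mul_comp]
    group
  have hz : ∀ (f : (Fin r → ZMod n) → (U ⟶ H)), (∀ a b, f (a + b) = f a * f b) →
      (∀ a, f a ^ n = 1) ∧ ∀ a b, f a * f b = f b * f a := fun f hf =>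
    tuple_props f (mul_eq_left.mp (show f 0 * f 0 = f 0 by rw [← hf, add_zero])) hf
  obtain ⟨hxn, hxc⟩ := hz x hadd
  obtain ⟨hκn, hκc⟩ := hz κ hκadd
  obtain ⟨M, jM, -, hMs, hM⟩ := exists_transp hn x κ hxn hκn hxc hκc
  haveI := hMs
  obtain ⟨m₀, hm₀⟩ := (hM Y₀ 1).mpr fun a => by
    have e := congrArg (e₀ ≫ ·) (hκ a)
    simp only [MonObj.comp_mul, GrpObj.comp_inv, hg'0, _root_.one_mul, inv_one, _root_.mul_one] at e
    rw [_root_.one_mul, _root_.mul_one, ← cancel_mono i, Category.assoc, Category.assoc]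
    exact e
  obtain ⟨m, hm⟩ := exists_section_lift J hJ m₀
  let k₁ := m ≫ jM
  have hk₁ : e₀ ≫ k₁ = 1 := by
    show toUnit _ ≫ m ≫ jM = 1
    rw [reassoc_of% hm, hm₀]
  let g'' := (k₁ ≫ i)⁻¹ * g'
  have hk : ∀ a, k₁ * x a = κ a * k₁ := fun a => by
    have e := (hM _ k₁).mp ⟨m, rfl⟩ a
    rw [toUnit_unique (toUnit (𝟙_ (Over (Spec (CommRingCat.of B))))) (𝟙 _), Category.id_comp, Category.id_comp] at e
    exact e
  obtain ⟨z, hz'⟩ := (hZ U g'').mpr fun a => by
    rw [toUnit_unique (toUnit U) (𝟙 _), Category.id_comp]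
    have e2 := congrArg (· ≫ i) (hk a)
    simp only [MonObj.mul_comp] at e2
    have e1 := hκ a
    show (k₁ ≫ i)⁻¹ * g' * (x a ≫ i) = x a ≫ i * ((k₁ ≫ i)⁻¹ * g')
    generalize k₁ ≫ i = K at e2 ⊢
    generalize x a ≫ i = A at e1 e2 ⊢
    generalize κ a ≫ i = A' at e1 e2
    calc K⁻¹ * g' * A = K⁻¹ * (g' * A * g'⁻¹) * g' := by group
      _ = K⁻¹ * A' * g' := by rw [e1]
      _ = K⁻¹ * (A' * K) * K⁻¹ * g' := by group
      _ = K⁻¹ * (K * A) * K⁻¹ * g' := by rw [e2]
      _ = A * (K⁻¹ * g') := by group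
  have hz1 : e₀ ≫ z = (1 : Y₀ ⟶ ZH) ≫ w := by
    rw [← cancel_mono jG, Category.assoc, hz', Category.assoc, hwc, MonObj.one_comp]
    show e₀ ≫ ((k₁ ≫ i)⁻¹ * g') = 1
    rw [MonObj.comp_mul, GrpObj.comp_inv, reassoc_of% hk₁, hg'0, MonObj.one_comp, inv_one, _root_.one_mul]
  have hr : Set.range z.left ⊆ Set.range w.left := by
    have hs : Function.Surjective e₀.left := by
      intro P'
      obtain ⟨Q, hQ⟩ : P' ∈ Set.range (Spec.map (CommRingCat.ofHom (Ideal.Quotient.mk J))) :=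
        (range_comap_of_surjective _ (Ideal.Quotient.mk J) Ideal.Quotient.mk_surjective).symm ▸
          fun p hp => P'.isPrime.mem_of_pow_mem 2 (by
            have : p ^ 2 ∈ J ^ 2 := Ideal.pow_mem_pow
              (by rwa [SetLike.mem_coe, RingHom.mem_ker, Ideal.Quotient.eq_zero_iff_mem] at hp) 2
            rw [hJ, Ideal.mem_bot] at this
            rw [this]; exact P'.asIdeal.zero_mem)
      exact ⟨Q, hQ⟩
    rintro _ ⟨P', rfl⟩
    obtain ⟨Q, rfl⟩ := hs P'
    rw [← Scheme.Hom.comp_apply, ← Over.comp_left, hz1, Over.comp_left, Scheme.Hom.comp_apply]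
    exact ⟨_, rfl⟩
  let zl := IsOpenImmersion.lift w.left z.left hr
  have hzl : zl ≫ w.left = z.left := IsOpenImmersion.lift_fac _ _ _
  let z' : U ⟶ ZH := Over.homMk zl (by rw [← Over.w w, reassoc_of% hzl, Over.w z])
  have hzw : z' ≫ w = z := Over.OverMorphism.ext hzl
  refine ⟨h₁ * k₁ * (z' ≫ jH), ?_⟩
  rw [MonObj.mul_comp, MonObj.mul_comp, Category.assoc z', ← hwc, reassoc_of% hzw, hz']
  show h₁ ≫ i * k₁ ≫ i * ((k₁ ≫ i)⁻¹ * ((h₁ ≫ i)⁻¹ * g)) = g
  group

end Lift

/-- A smooth subgroup with sections cutting it out near the unit is smooth over its normaliser. -/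
theorem smooth_toNormalizer_of_tuple {G H N : Over S} [GrpObj G] [GrpObj H] [Smooth H.hom] [IsSeparated H.hom]
    [LocallyOfFinitePresentation N.hom] (i : H ⟶ G) [IsMonHom i] [Mono i] (hT : CutTuple i) (n : N ⟶ G) [Mono n]
    (hn : ∀ (X : Over S) (z : X ⟶ N), Into i i (z ≫ n)) (f : H ⟶ N) (hf : f ≫ n = i) : Smooth f.left := by
  haveI : LocallyOfFinitePresentation f.left := by
    haveI : LocallyOfFinitePresentation (f.left ≫ N.hom) := by rw [Over.w f]; infer_instance
    exact AlgSpPts.locallyOfFinitePresentation_of_comp f.left N.hom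
  refine (Groth.Agent.S1488.result f.left).mpr ⟨inferInstance, fun B _ J hJ a b hab => ?_⟩
  let β := b ≫ N.hom
  haveI : (Over.pullback β).IsRightAdjoint := (Over.mapPullbackAdj β).isRightAdjoint
  haveI : Smooth (Red.bc β H).hom := inferInstanceAs (Smooth (pullback.snd H.hom β))
  haveI : IsSeparated (Red.bc β H).hom := inferInstanceAs (IsSeparated (pullback.snd H.hom β))
  let Y₀ : Over (Spec (CommRingCat.of B)) := Over.mk (Spec.map (CommRingCat.ofHom (Ideal.Quotient.mk J)))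
  let pb : (Over.map β).obj (𝟙_ (Over (Spec (CommRingCat.of B)))) ⟶ N := Over.homMk b (Category.id_comp β).symm
  let pa : (Over.map β).obj Y₀ ⟶ H := Over.homMk a (by
    show a ≫ H.hom = Spec.map (CommRingCat.ofHom (Ideal.Quotient.mk J)) ≫ b ≫ N.hom
    rw [reassoc_of% hab, Over.w f])
  have hpab : pa ≫ f = (Over.map β).map (toUnit Y₀) ≫ pb := Over.OverMorphism.ext hab.symm
  obtain ⟨g, hg⟩ := (DSPtsLib.theta_bijective (g := β) (H := G)).2 (pb ≫ n)
  obtain ⟨h₀, hh₀⟩ := (DSPtsLib.theta_bijective (g := β) (H := H)).2 pa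
  obtain ⟨h, hh⟩ := mem_of_norm_lift ((Over.pullback β).map i) (cutTuple_bc β hT) J hJ g
    ((into_bc β i i g).mpr (hg ▸ hn _ pb)) h₀ ((DSPtsLib.theta_bijective β).1 (by
      rw [theta_map', hh₀, DSPtsLib.theta_comp, hg, ← reassoc_of% hpab, hf]))
  have e : DSPtsLib.theta β h ≫ f = pb := by
    rw [← cancel_mono n, Category.assoc, hf, ← theta_map', hh, hg]
  have e' : (DSPtsLib.theta β h).left ≫ f.left = b := congrArg CommaMorphism.left e
  refine ⟨(DSPtsLib.theta β h).left, ?_, e'⟩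
  haveI : Mono (f ≫ n) := by rw [hf]; infer_instance
  haveI : Mono f := mono_of_mono f n
  haveI : Mono f.left := inferInstanceAs (Mono ((Over.forget _).map f))
  rw [← cancel_mono f.left, Category.assoc, e']
  exact hab

set_option maxHeartbeats 2000000 in
/-- A subgroup containing Cartan subgroups is open in its normaliser. -/
theorem isOpenImmersion_toNormalizer {G H N : Over S} [GrpObj G] [GrpObj H] [Smooth G.hom] [IsSeparated G.hom]
    [QuasiCompact G.hom] [Smooth H.hom] [IsSeparated H.hom] [LocallyOfFinitePresentation N.hom] (i : H ⟶ G)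
    [IsMonHom i] [Mono i]
    (hHC : ∀ s : S, ∃ (C' : Over (Spec (CommRingCat.of (AlgebraicClosure (S.residueField s))))) (_ : GrpObj C')
      (c' : C' ⟶ Red.geomFibre s H), SGA3x.IsCartanOver _ (c' ≫ (Over.pullback (Red.geomPt s)).map i))
    (n : N ⟶ G) [Mono n] (hn : ∀ (X : Over S) (z : X ⟶ N), Into i i (z ≫ n)) (f : H ⟶ N) (hf : f ≫ n = i) :
    IsOpenImmersion f.left := by
  choose X W hXs hsW hT using exists_cut_cover i hHC
  let p : (s : S) → pullback (pullback.snd H.hom (X s).hom) (W s).ι ⟶ H.left := fun s =>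
    pullback.fst _ _ ≫ pullback.fst _ _
  haveI hps : ∀ s, Smooth (p s) := fun s => haveI := hXs s; inferInstance
  have hpiece : ∀ s, Smooth (p s ≫ f.left) := fun s => by
    haveI := hXs s
    let h₁ := (X s).hom
    let h₂ := (W s).ι
    haveI : (Over.pullback h₁).IsRightAdjoint := (Over.mapPullbackAdj h₁).isRightAdjoint
    haveI : (Over.pullback h₂).IsRightAdjoint := (Over.mapPullbackAdj h₂).isRightAdjoint
    haveI : Smooth (Red.bc h₁ H).hom := inferInstanceAs (Smooth (pullback.snd H.hom h₁))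
    haveI : Smooth (Red.bc h₂ (Red.bc h₁ H)).hom := inferInstanceAs (Smooth (pullback.snd (Red.bc h₁ H).hom h₂))
    haveI : IsSeparated (Red.bc h₁ H).hom := inferInstanceAs (IsSeparated (pullback.snd H.hom h₁))
    haveI : IsSeparated (Red.bc h₂ (Red.bc h₁ H)).hom :=
      inferInstanceAs (IsSeparated (pullback.snd (Red.bc h₁ H).hom h₂))
    haveI : LocallyOfFinitePresentation (Red.bc h₁ N).hom :=
      inferInstanceAs (LocallyOfFinitePresentation (pullback.snd N.hom h₁))
    haveI : LocallyOfFinitePresentation (Red.bc h₂ (Red.bc h₁ N)).hom :=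
      inferInstanceAs (LocallyOfFinitePresentation (pullback.snd (Red.bc h₁ N).hom h₂))
    have key : ∀ {S₁ S₂ : Scheme.{u}} (g₂ : S₂ ⟶ S₁) {G₁ H₁ N₁ : Over S₁} [GrpObj G₁] (i₁ : H₁ ⟶ G₁) (n₁ : N₁ ⟶ G₁),
        (∀ (Y : Over S₁) (z : Y ⟶ N₁), Into i₁ i₁ (z ≫ n₁)) →
        ∀ (Y : Over S₂) (z : Y ⟶ Red.bc g₂ N₁),
          Into ((Over.pullback g₂).map i₁) ((Over.pullback g₂).map i₁) (z ≫ (Over.pullback g₂).map n₁) := by
      intro S₁ S₂ g₂ G₁ H₁ N₁ _ i₁ n₁ h Y z
      rw [into_bc, theta_map']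
      exact h _ _
    haveI : Smooth ((Over.pullback h₂).map ((Over.pullback h₁).map f)).left :=
      smooth_toNormalizer_of_tuple ((Over.pullback h₂).map ((Over.pullback h₁).map i)) (hT s)
        ((Over.pullback h₂).map ((Over.pullback h₁).map n)) (key h₂ _ _ (key h₁ i n hn))
        ((Over.pullback h₂).map ((Over.pullback h₁).map f)) (by rw [← Functor.map_comp, ← Functor.map_comp, hf])
    rw [show p s ≫ f.left = ((Over.pullback h₂).map ((Over.pullback h₁).map f)).left ≫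
        pullback.fst (pullback.snd N.hom h₁) h₂ ≫ pullback.fst N.hom h₁ from by
      refine (Category.assoc _ _ _).trans ((congrArg (pullback.fst _ _ ≫ ·)
        (pullback.lift_fst _ _ _ : ((Over.pullback h₁).map f).left ≫ pullback.fst N.hom h₁ = _).symm).trans ?_)
      exact (Category.assoc _ _ _).symm.trans ((congrArg (· ≫ pullback.fst N.hom h₁) (pullback.lift_fst _ _ _ :
        ((Over.pullback h₂).map ((Over.pullback h₁).map f)).left ≫ pullback.fst _ h₂ = _).symm).trans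
          (Category.assoc _ _ _))]
    infer_instance
  let P := Sigma.desc p
  haveI : Smooth P := IsZariskiLocalAtSource.sigmaDesc fun s => hps s
  haveI : Surjective P := ⟨fun y => by
    obtain ⟨x, hxW, hx⟩ := hsW (H.hom y)
    obtain ⟨z₁, hz₁, hz₁'⟩ := Scheme.Pullback.exists_preimage_pullback (f := H.hom) (g := (X (H.hom y)).hom) y x hx.symm
    obtain ⟨z, hz, -⟩ := Scheme.Pullback.exists_preimage_pullback (f := pullback.snd H.hom (X (H.hom y)).hom)
      (g := (W (H.hom y)).ι) z₁ ⟨x, hxW⟩ hz₁'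
    refine ⟨Sigma.ι (fun s => pullback (pullback.snd H.hom (X s).hom) (W s).ι) (H.hom y) z, ?_⟩
    rw [← Scheme.Hom.comp_apply, Sigma.ι_desc, Scheme.Hom.comp_apply, hz, hz₁]⟩
  haveI : Smooth f.left := SrcDescent.smooth_of_smooth_comp P f.left (by
    rw [show P ≫ f.left = Sigma.desc fun s => p s ≫ f.left from by ext s; simp [P]]
    exact IsZariskiLocalAtSource.sigmaDesc hpiece)
  haveI : Mono (f ≫ n) := by rw [hf]; infer_instance
  haveI : Mono f := mono_of_mono f n
  haveI : Mono f.left := inferInstanceAs (Mono ((Over.forget _).map f))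
  exact IsOpenImmersion.of_flat_of_mono f.left

end Groth.Agent.CartanIn
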