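import Groth.Agent.CartanIn.HomSchemeLft
import Groth.Agent.CartanIn.Commute
import Groth.Agent.TorsionCent.Main
import Groth.Agent.TorsionCent.Global
import Groth.Agent.MaxTorCent.Normalizer
import Groth.Agent.MultTypeLib.CosetLift

/-!
# Lifting points conjugating into a smooth subgroup a subgroup cut out by torsion sections
-/

set_option backward.isDefEq.respectTransparency false
set_option backward.isDefEq.respectTransparency.types false
set_option linter.style.haveILetI false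
set_option autoImplicit false
set_option maxHeartbeats 1000000
set_option synthInstance.maxHeartbeats 200000

universe u

open CategoryTheory Limits MonoidalCategory CartesianMonoidalCategory MonObj AlgebraicGeometry

namespace Groth.Agent.CartanIn

open GrpSchLib TorsionCent MaxTorCent MultTypeLib.CosetLift

variable {B : Type u} [CommRing B]

/-- Points of a smooth scheme over an affine scheme lift along square zero thickenings. -/
theorem exists_section_lift {K : Over (Spec (CommRingCat.of B))} [Smooth K.hom] (J : Ideal B) (hJ : J ^ 2 = ⊥)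
    (c₀ : Over.mk (Spec.map (CommRingCat.ofHom (Ideal.Quotient.mk J))) ⟶ K) :
    ∃ c : 𝟙_ (Over (Spec (CommRingCat.of B))) ⟶ K, toUnit _ ≫ c = c₀ := by
  obtain ⟨-, hfs⟩ := (Groth.Agent.S1488.result K.hom).mp inferInstance
  obtain ⟨l, hl1, hl2⟩ := hfs B J hJ c₀.left (𝟙 _) (by rw [Category.comp_id]; exact (Over.w c₀).symm)
  refine ⟨Over.homMk l hl2, Over.OverMorphism.ext ?_⟩
  rw [Over.comp_left, show (toUnit (Over.mk (Spec.map (CommRingCat.ofHom (Ideal.Quotient.mk J))))).left =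
    Spec.map (CommRingCat.ofHom (Ideal.Quotient.mk J)) from rfl]
  exact hl1

/-- A point conjugating `C` into a smooth subgroup modulo a square zero ideal lifts to one which does, when `C` is
open in the centraliser of torsion sections of itself. -/
theorem exists_into_lift_of_tuple {G H C Z : Over (Spec (CommRingCat.of B))} [GrpObj G] [GrpObj H] [GrpObj C] [GrpObj Z]
    [Smooth G.hom] [IsSeparated G.hom] [Smooth H.hom] [Smooth C.hom] [Smooth Z.hom] (i : H ⟶ G) [IsMonHom i] [Mono i]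
    (c : C ⟶ G) [IsMonHom c] {n r : ℕ} [NeZero n] (hn : IsUnit (n : Γ(Spec (CommRingCat.of B), ⊤)))
    (x : (Fin r → ZMod n) → (𝟙_ (Over (Spec (CommRingCat.of B))) ⟶ C)) (hadd : ∀ a b, x (a + b) = x a * x b)
    (jZ : Z ⟶ G) [IsMonHom jZ] [Mono jZ]
    (hZ : ∀ (Y : Over (Spec (CommRingCat.of B))) (g : Y ⟶ G),
      (∃ z, z ≫ jZ = g) ↔ ∀ a, g * (toUnit Y ≫ x a ≫ c) = (toUnit Y ≫ x a ≫ c) * g)
    (w : C ⟶ Z) [IsOpenImmersion w.left] (hw : w ≫ jZ = c)
    (J : Ideal B) (hJ : J ^ 2 = ⊥) (g₀ : Over.mk (Spec.map (CommRingCat.ofHom (Ideal.Quotient.mk J))) ⟶ G)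
    (h0 : Into i c g₀) :
    ∃ g : 𝟙_ (Over (Spec (CommRingCat.of B))) ⟶ G, toUnit _ ≫ g = g₀ ∧ Into i c g := by
  let jι := Spec.map (CommRingCat.ofHom (Ideal.Quotient.mk J))
  let Y₀ : Over (Spec (CommRingCat.of B)) := Over.mk jι
  let e₀ := toUnit Y₀
  haveI : Mono i.left := inferInstanceAs (Mono ((Over.forget _).map i))
  haveI : IsSeparated H.hom := by rw [← Over.w i]; infer_instance
  -- the conjugate tuple modulo the ideal and a lift of it
  choose κ hκ using fun a => h0 Y₀ (𝟙 Y₀) (e₀ ≫ x a)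
  have hκ' : ∀ a, g₀ * (e₀ ≫ x a ≫ c) = (κ a ≫ i) * g₀ := fun a => by
    have h := hκ a
    rw [Category.id_comp, mul_inv_eq_iff_eq_mul, Category.assoc] at h
    exact h
  have hκadd : ∀ a b, κ (a + b) = κ a * κ b := fun a b => by
    rw [← cancel_mono i, MonObj.mul_comp, ← hκ, ← hκ, ← hκ, hadd, MonObj.comp_mul, MonObj.mul_comp]
    group
  obtain ⟨𝓧, xH, h𝓧, -, -, hxadd, hxuniv⟩ := exists_homScheme_lft (G := H) hn r
  haveI := h𝓧
  obtain ⟨l₀, hl₀⟩ := hxuniv Y₀ κ hκadd
  obtain ⟨l, hl⟩ := exists_section_lift J hJ l₀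
  let y : (Fin r → ZMod n) → (𝟙_ (Over (Spec (CommRingCat.of B))) ⟶ H) := fun a => l ≫ xH a
  have hyadd : ∀ a b, y (a + b) = y a * y b := fun a b => by simp only [y, hxadd, MonObj.comp_mul]
  have he₀y : ∀ a, e₀ ≫ y a = κ a := fun a => by
    show toUnit _ ≫ l ≫ xH a = _
    rw [reassoc_of% hl, hl₀]
  have hz : ∀ {K : Over (Spec (CommRingCat.of B))} [GrpObj K] (f : (Fin r → ZMod n) → (𝟙_ (Over _) ⟶ K)),
      (∀ a b, f (a + b) = f a * f b) → (∀ a, f a ^ n = 1) ∧ ∀ a b, f a * f b = f b * f a := fun {K} _ f hf =>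
    tuple_props f (mul_eq_left.mp (show f 0 * f 0 = f 0 by rw [← hf, add_zero])) hf
  obtain ⟨hxn, hxc⟩ := hz (fun a => x a ≫ c) (fun a b => by rw [hadd, MonObj.mul_comp])
  obtain ⟨hyn, hyc⟩ := hz (fun a => y a ≫ i) (fun a b => by rw [hyadd, MonObj.mul_comp])
  -- the lifted point
  obtain ⟨M, jM, hjM, hMs, hM⟩ := exists_transp hn (fun a => x a ≫ c) (fun a => y a ≫ i) hxn hyn hxc hyc
  haveI := hMs
  obtain ⟨m₀, hm₀⟩ := (hM Y₀ g₀).mpr fun a => by
    rw [hκ' a, ← Category.assoc e₀ (y a), he₀y]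
  obtain ⟨m, hm⟩ := exists_section_lift J hJ m₀
  let g := m ≫ jM
  have hg₀ : e₀ ≫ g = g₀ := by
    show toUnit _ ≫ m ≫ jM = _
    rw [reassoc_of% hm, hm₀]
  have hgy : ∀ a, g * (x a ≫ c) = (y a ≫ i) * g := fun a => by
    simpa only [toUnit_unique (toUnit (𝟙_ (Over (Spec (CommRingCat.of B))))) (𝟙 _), Category.id_comp] using
      (hM _ g).mp ⟨m, rfl⟩ a
  refine ⟨g, hg₀, ?_⟩
  -- the centralisers of the tuples
  obtain ⟨hyn', hyc'⟩ := hz y hyadd
  obtain ⟨ZH, _, jH, hjH, hjHc, hZHs, hZH⟩ := exists_cent hn y hyn' hyc'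
  haveI := hjH; haveI := hjHc; haveI := hZHs
  haveI : Mono jH := haveI : Mono jH.left := inferInstance; Over.mono_of_mono_left _
  let φ := conjEnd g⁻¹
  obtain ⟨v, hv⟩ := (hZ ZH ((jH ≫ i) ≫ φ)).mpr fun a => by
    have h1 := congrArg (· ≫ i) ((hZH ZH jH).mp ⟨𝟙 _, Category.id_comp _⟩ a)
    simp only [MonObj.mul_comp, Category.assoc] at h1
    rw [comp_conjEnd, GrpObj.comp_inv, inv_inv]
    have h2 := congrArg (toUnit ZH ≫ ·) (hgy a)
    simp only [MonObj.comp_mul] at h2
    generalize toUnit ZH ≫ g = γ₀ at h2 ⊢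
    generalize toUnit ZH ≫ x a ≫ c = A at h2 ⊢
    generalize toUnit ZH ≫ y a ≫ i = A' at h1 h2
    generalize jH ≫ i = U at h1 ⊢
    have h3 : A = γ₀⁻¹ * A' * γ₀ := by rw [_root_.mul_assoc, ← h2, inv_mul_cancel_left]
    rw [h3]
    calc γ₀⁻¹ * U * γ₀ * (γ₀⁻¹ * A' * γ₀) = γ₀⁻¹ * (U * A') * γ₀ := by group
      _ = γ₀⁻¹ * (A' * U) * γ₀ := by rw [h1]
      _ = _ := by group
  haveI : Mono (v ≫ jZ) := by rw [hv]; infer_instance
  haveI : Mono v := mono_of_mono v jZ
  haveI : Mono v.left := inferInstanceAs (Mono ((Over.forget _).map v))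
  let P : Over (Spec (CommRingCat.of B)) := Over.mk (pullback.fst v.left w.left ≫ ZH.hom)
  let pH : P ⟶ ZH := Over.homMk (pullback.fst v.left w.left) rfl
  let q : P ⟶ C := Over.homMk (pullback.snd v.left w.left) (by
    show pullback.snd v.left w.left ≫ C.hom = pullback.fst v.left w.left ≫ ZH.hom
    rw [← Over.w v, ← Over.w w, ← Category.assoc, ← pullback.condition, Category.assoc])
  have sq : IsPullback pH q v w :=
    IsPullback.of_map (Over.forget _) (Over.OverMorphism.ext pullback.condition) (IsPullback.of_hasPullback _ _)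
  haveI : Smooth P.hom := inferInstanceAs (Smooth (pullback.fst v.left w.left ≫ ZH.hom))
  haveI : Mono q := sq.mono_snd_of_mono
  haveI : Mono q.left := inferInstanceAs (Mono ((Over.forget _).map q))
  have hqc : q ≫ c = pH ≫ (jH ≫ i) ≫ φ := by rw [← hw, ← Category.assoc, ← sq.w, Category.assoc, hv]
  -- over the thickened point `C` maps into `H`
  have hsec : ∀ (Y : Over (Spec (CommRingCat.of B))) (t : Y ⟶ Y₀) (β : Y ⟶ C), ∃ p, p ≫ q = β := by
    intro Y t β
    obtain ⟨h, hh⟩ := h0 Y t β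
    have htg : t ≫ g₀ = toUnit Y ≫ g := by rw [← hg₀, ← Category.assoc, toUnit_unique (t ≫ e₀) (toUnit Y)]
    rw [htg] at hh
    have hβ := (hZ Y (β ≫ c)).mp ⟨β ≫ w, by rw [Category.assoc, hw]⟩
    obtain ⟨ζ, hζ⟩ := (hZH Y h).mpr fun a => by
      rw [← cancel_mono i, MonObj.mul_comp, MonObj.mul_comp, ← hh, Category.assoc]
      have h2 := congrArg (toUnit Y ≫ ·) (hgy a)
      simp only [MonObj.comp_mul] at h2
      have h1 := hβ a
      generalize toUnit Y ≫ g = γ₀ at h2 ⊢
      generalize toUnit Y ≫ x a ≫ c = A at h1 h2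
      generalize toUnit Y ≫ y a ≫ i = A' at h2 ⊢
      generalize β ≫ c = U at h1 ⊢
      have h3 : A' = γ₀ * A * γ₀⁻¹ := by rw [h2, mul_inv_cancel_right]
      rw [h3]
      calc γ₀ * U * γ₀⁻¹ * (γ₀ * A * γ₀⁻¹) = γ₀ * (U * A) * γ₀⁻¹ := by group
        _ = γ₀ * (A * U) * γ₀⁻¹ := by rw [h1]
        _ = _ := by group
    have e : ζ ≫ v = β ≫ w := by
      rw [← cancel_mono jZ, Category.assoc, Category.assoc, hv, hw, Category.assoc jH, reassoc_of% hζ,
        ← Category.assoc, ← hh, comp_conjEnd, GrpObj.comp_inv, inv_inv]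
      group
    exact ⟨sq.lift ζ β e, sq.lift_snd _ _ _⟩
  -- hence everywhere
  have hpt : ∀ {Ω : Type u} [Field Ω] (a : Spec (CommRingCat.of Ω) ⟶ Spec (CommRingCat.of B)),
      IsIso ((Over.pullback a).map q).left := by
    intro Ω _ a
    haveI : IsClosedImmersion jι := IsClosedImmersion.spec_of_surjective _ Ideal.Quotient.mk_surjective
    obtain ⟨a', ha'⟩ := H23.RedSub.exists_lift_closed a jι (by
      rintro P' -
      exact (range_comap_of_surjective _ (Ideal.Quotient.mk J) Ideal.Quotient.mk_surjective).symm ▸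
        fun p hp => P'.isPrime.mem_of_pow_mem 2 (by
          have : p ^ 2 ∈ J ^ 2 := Ideal.pow_mem_pow (by rwa [SetLike.mem_coe, RingHom.mem_ker, Ideal.Quotient.eq_zero_iff_mem] at hp) 2
          rw [hJ, Ideal.mem_bot] at this
          rw [this]; exact P'.asIdeal.zero_mem))
    haveI : (Over.pullback a).IsRightAdjoint := (Over.mapPullbackAdj a).isRightAdjoint
    let W := Red.bc a C
    let Y : Over (Spec (CommRingCat.of B)) := (Over.map a).obj W
    let t : Y ⟶ Y₀ := Over.homMk (W.hom ≫ a') (by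
      show (W.hom ≫ a') ≫ jι = W.hom ≫ a
      rw [Category.assoc, ha'])
    obtain ⟨p, hp⟩ := hsec Y t (DSPtsLib.theta a (𝟙 W))
    obtain ⟨p', hp'⟩ := (DSPtsLib.theta_bijective (g := a)).2 p
    haveI : IsSplitEpi ((Over.pullback a).map q) := IsSplitEpi.mk' ⟨p', (DSPtsLib.theta_bijective a).1 (by
      rw [theta_map', hp', hp])⟩
    haveI : IsIso ((Over.pullback a).map q) := isIso_of_mono_of_isSplitEpi _
    exact inferInstanceAs (IsIso ((Over.forget _).map ((Over.pullback a).map q)))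
  haveI : LocallyOfFinitePresentation q.left := by
    haveI : LocallyOfFinitePresentation (q.left ≫ C.hom) := by rw [Over.w]; infer_instance
    exact AlgSpPts.locallyOfFinitePresentation_of_comp q.left C.hom
  haveI : Surjective q.left := TorsionCent.surjective_of_geomPt q fun s => by
    haveI : IsIso ((Over.pullback (Red.geomPt s)).map q).left := hpt (Red.geomPt s)
    exact ⟨((Over.pullback (Red.geomPt s)).map q).left.homeomorph.surjective⟩
  haveI : Flat q.left := Flat.of_stalkMap _ fun z =>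
    flat_stalk_of_geom_iso q (Red.geomPt (P.hom z)) (hpt _) z (by
      show P.hom z = (Spec.map _ ≫ _) _
      exact (Scheme.fromSpecResidueField_apply _ _).symm)
  haveI : IsOpenImmersion q.left := IsOpenImmersion.of_flat_of_mono q.left
  haveI : IsIso q.left := (isIso_iff_isOpenImmersion_and_surjective q.left).mpr ⟨inferInstance, inferInstance⟩
  haveI : IsIso ((Over.forget _).map q) := ‹IsIso q.left›
  haveI : IsIso q := isIso_of_reflects_iso q (Over.forget _)
  intro T t h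
  refine ⟨h ≫ inv q ≫ pH ≫ jH, ?_⟩
  have hc : c = (inv q ≫ pH ≫ jH ≫ i) ≫ φ := by
    rw [← cancel_epi q, hqc]
    simp only [Category.assoc, IsIso.hom_inv_id_assoc]
  conv_lhs => rw [hc]
  simp only [φ, Category.assoc]
  rw [show h ≫ inv q ≫ pH ≫ jH ≫ i ≫ conjEnd g⁻¹ = (h ≫ inv q ≫ pH ≫ jH ≫ i) ≫ conjEnd g⁻¹ by simp,
    comp_conjEnd, GrpObj.comp_inv, inv_inv, toUnit_unique (toUnit T) t]
  group

end Groth.Agent.CartanIn
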