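import Groth.Agent.CartanIn.CartanTuple
import Groth.Agent.CartanIn.TransLift
import Groth.Agent.SmoothWeilLib.Subgroups
import Groth.Agent.SrcDescent.LocalAtSource

/-!
# The transporter of a Cartan subgroup into a smooth subgroup
-/

set_option backward.isDefEq.respectTransparency false
set_option backward.isDefEq.respectTransparency.types false
set_option linter.style.haveILetI false
set_option autoImplicit false
set_option maxHeartbeats 1000000
set_option synthInstance.maxHeartbeats 200000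

universe u

open CategoryTheory Limits MonoidalCategory CartesianMonoidalCategory MonObj AlgebraicGeometry

namespace Groth.Agent.CartanIn

open GrpSchLib TorsionCent MultTypeLib.CosetLift

variable {S S' : Scheme.{u}}

/-- Conjugating into a subgroup is compatible with base change. -/
theorem into_bc (f : S' ⟶ S) {G H C : Over S} [GrpObj G] (i : H ⟶ G) (c : C ⟶ G) {Y : Over S'} (g : Y ⟶ Red.bc f G) :
    Into ((Over.pullback f).map i) ((Over.pullback f).map c) g ↔ Into i c (DSPtsLib.theta f g) := by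
  constructor
  · intro hg T q h
    let T' : Over S' := Over.mk (q.left ≫ Y.hom)
    let e : (Over.map f).obj T' ≅ T := Over.isoMk (Iso.refl _) (by
      show 𝟙 _ ≫ T.hom = (q.left ≫ Y.hom) ≫ f
      rw [Category.id_comp, Category.assoc]
      exact (Over.w q).symm)
    let q' : T' ⟶ Y := Over.homMk q.left rfl
    have hq : (Over.map f).map q' = e.hom ≫ q := Over.OverMorphism.ext (Category.id_comp _).symm
    obtain ⟨h', hh'⟩ := (DSPtsLib.theta_bijective (g := f) (Y := T') (H := C)).2 (e.hom ≫ h)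
    obtain ⟨x, hx⟩ := hg T' q' h'
    have hx1 := congrArg (DSPtsLib.theta f) hx
    rw [DSPtsLib.theta_mul, DSPtsLib.theta_mul, MaxTorCent.theta_inv, theta_map', theta_map', DSPtsLib.theta_comp, hh', hq]
      at hx1
    have hx' := congrArg (e.inv ≫ ·) hx1
    simp only [MonObj.comp_mul, GrpObj.comp_inv, Category.assoc, e.inv_hom_id_assoc] at hx'
    exact ⟨e.inv ≫ DSPtsLib.theta f x, by rw [hx', Category.assoc]⟩
  · intro hg T q h
    obtain ⟨x, hx⟩ := hg ((Over.map f).obj T) ((Over.map f).map q) (DSPtsLib.theta f h)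
    obtain ⟨x', rfl⟩ := (DSPtsLib.theta_bijective (g := f)).2 x
    exact ⟨x', (DSPtsLib.theta_bijective f).1 (by
      rw [DSPtsLib.theta_mul, DSPtsLib.theta_mul, MaxTorCent.theta_inv, theta_map', theta_map', DSPtsLib.theta_comp, hx])⟩

/-- The transporter into a smooth subgroup of a subgroup open in the centraliser of torsion sections of itself is
smooth. -/
theorem smooth_into_of_tuple {G H C M : Over S} [GrpObj G] [GrpObj H] [GrpObj C] [Smooth G.hom] [IsSeparated G.hom]
    [Smooth H.hom] [Smooth C.hom] (i : H ⟶ G) [IsMonHom i] [Mono i] (c : C ⟶ G) [IsMonHom c] (hT : HasTuple c)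
    (m : M ⟶ G) [Mono m] [LocallyOfFinitePresentation M.hom]
    (hM : ∀ (X : Over S) (g : X ⟶ G), (∃ z, z ≫ m = g) ↔ Into i c g) : Smooth M.hom := by
  refine (Groth.Agent.S1488.result M.hom).mpr ⟨inferInstance, fun B _ J hJ a β hab => ?_⟩
  haveI : (Over.pullback β).IsRightAdjoint := (Over.mapPullbackAdj β).isRightAdjoint
  haveI : Smooth (Red.bc β G).hom := inferInstanceAs (Smooth (pullback.snd G.hom β))
  haveI : IsSeparated (Red.bc β G).hom := inferInstanceAs (IsSeparated (pullback.snd G.hom β))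
  haveI : Smooth (Red.bc β H).hom := inferInstanceAs (Smooth (pullback.snd H.hom β))
  haveI : Smooth (Red.bc β C).hom := inferInstanceAs (Smooth (pullback.snd C.hom β))
  obtain ⟨n, r, hn0, hn, x, hadd, Z, _, jZ, hjm, hjmono, hZs, hZ, w, hw, hwc⟩ := hasTuple_bc β hT
  haveI := hn0; haveI := hjm; haveI := hjmono; haveI := hZs; haveI := hw
  let Y₀ : Over (Spec (CommRingCat.of B)) := Over.mk (Spec.map (CommRingCat.ofHom (Ideal.Quotient.mk J)))
  let p : (Over.map β).obj Y₀ ⟶ M := Over.homMk a hab.symm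
  obtain ⟨g₀, hg₀⟩ := (DSPtsLib.theta_bijective (g := β) (Y := Y₀)).2 (p ≫ m)
  obtain ⟨g, hg, hgI⟩ := exists_into_lift_of_tuple ((Over.pullback β).map i) ((Over.pullback β).map c) hn x hadd jZ hZ
    w hwc J hJ g₀ ((into_bc β i c g₀).mpr (hg₀ ▸ (hM _ _).mp ⟨p, rfl⟩))
  obtain ⟨z, hz⟩ := (hM _ _).mpr ((into_bc β i c g).mp hgI)
  have hpz : (Over.map β).map (toUnit Y₀) ≫ z = p := by
    rw [← cancel_mono m, Category.assoc, hz, ← DSPtsLib.theta_comp, hg, hg₀]
  exact ⟨z.left, congrArg CommaMorphism.left hpz, (Over.w z).trans (Category.id_comp β)⟩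

set_option maxHeartbeats 2000000 in
/-- The transporter of a Cartan subgroup into a smooth subgroup is a smooth closed subscheme. -/
theorem exists_transporter_cartan {G H C : Over S} [GrpObj G] [GrpObj H] [GrpObj C] [Smooth G.hom] [IsSeparated G.hom]
    [QuasiCompact G.hom] [Smooth H.hom] (hconn : ∀ s : S, _root_.IsConnected (G.hom.base ⁻¹' {s})) (i : H ⟶ G)
    [IsMonHom i] [Mono i] (c : C ⟶ G) (hC : SGA3x.IsCartan c) :
    ∃ (M : Over S) (m : M ⟶ G), IsClosedImmersion m.left ∧ Smooth M.hom ∧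
      ∀ (X : Over S) (g : X ⟶ G), (∃ z, z ≫ m = g) ↔ Into i c g := by
  haveI := hC.1; haveI := hC.2.1; haveI := hC.2.2.1
  haveI : LocallyOfFinitePresentation i.left := by
    haveI : LocallyOfFinitePresentation (i.left ≫ G.hom) := by rw [Over.w i]; infer_instance
    exact AlgSpPts.locallyOfFinitePresentation_of_comp i.left G.hom
  obtain ⟨M, m, hm, hmf, hM⟩ := SmoothWeilLib.exists_transporter (connected_cartan hconn hC) c i
  haveI := hm; haveI := hmf
  haveI : LocallyOfFinitePresentation M.hom := by rw [← Over.w m]; infer_instance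
  haveI : Mono m := (Over.forget _).mono_of_mono_map (inferInstanceAs (Mono m.left))
  have hM' : ∀ (X : Over S) (g : X ⟶ G), (∃ z, z ≫ m = g) ↔ Into i c g := hM
  refine ⟨M, m, hm, ?_, hM'⟩
  choose X W hXs hsW hT using exists_cover hconn hC
  let f : (s : S) → (W s : Scheme.{u}) ⟶ S := fun s => (W s).ι ≫ (X s).hom
  haveI hfs : ∀ s, Smooth (f s) := fun s => haveI := hXs s; inferInstance
  have hpiece : ∀ s, Smooth (pullback.snd M.hom (f s)) := fun s => by
    haveI := hXs s
    let h₁ := (X s).hom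
    let h₂ := (W s).ι
    haveI : (Over.pullback h₁).IsRightAdjoint := (Over.mapPullbackAdj h₁).isRightAdjoint
    haveI : (Over.pullback h₂).IsRightAdjoint := (Over.mapPullbackAdj h₂).isRightAdjoint
    haveI : Smooth (Red.bc h₁ G).hom := inferInstanceAs (Smooth (pullback.snd G.hom h₁))
    haveI : IsSeparated (Red.bc h₁ G).hom := inferInstanceAs (IsSeparated (pullback.snd G.hom h₁))
    haveI : Smooth (Red.bc h₂ (Red.bc h₁ G)).hom :=
      inferInstanceAs (Smooth (pullback.snd (Red.bc h₁ G).hom h₂))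
    haveI : IsSeparated (Red.bc h₂ (Red.bc h₁ G)).hom :=
      inferInstanceAs (IsSeparated (pullback.snd (Red.bc h₁ G).hom h₂))
    haveI : Smooth (Red.bc h₁ H).hom := inferInstanceAs (Smooth (pullback.snd H.hom h₁))
    haveI : Smooth (Red.bc h₂ (Red.bc h₁ H)).hom := inferInstanceAs (Smooth (pullback.snd (Red.bc h₁ H).hom h₂))
    haveI : Smooth (Red.bc h₁ C).hom := inferInstanceAs (Smooth (pullback.snd C.hom h₁))
    haveI : Smooth (Red.bc h₂ (Red.bc h₁ C)).hom := inferInstanceAs (Smooth (pullback.snd (Red.bc h₁ C).hom h₂))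
    haveI : LocallyOfFinitePresentation (Red.bc h₁ M).hom :=
      inferInstanceAs (LocallyOfFinitePresentation (pullback.snd M.hom h₁))
    haveI : LocallyOfFinitePresentation (Red.bc h₂ (Red.bc h₁ M)).hom :=
      inferInstanceAs (LocallyOfFinitePresentation (pullback.snd (Red.bc h₁ M).hom h₂))
    have key : ∀ {S₁ S₂ : Scheme.{u}} (g₂ : S₂ ⟶ S₁) {G₁ H₁ C₁ M₁ : Over S₁} [GrpObj G₁] (i₁ : H₁ ⟶ G₁) (c₁ : C₁ ⟶ G₁)
        (m₁ : M₁ ⟶ G₁), (∀ (Y : Over S₁) (g : Y ⟶ G₁), (∃ z, z ≫ m₁ = g) ↔ Into i₁ c₁ g) →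
        ∀ (Y : Over S₂) (g : Y ⟶ Red.bc g₂ G₁), (∃ z, z ≫ (Over.pullback g₂).map m₁ = g) ↔
          Into ((Over.pullback g₂).map i₁) ((Over.pullback g₂).map c₁) g := by
      intro S₁ S₂ g₂ G₁ H₁ C₁ M₁ _ i₁ c₁ m₁ h Y g
      rw [into_bc, ← h]
      constructor
      · rintro ⟨z, rfl⟩
        exact ⟨_, (theta_map' g₂ z m₁).symm⟩
      · rintro ⟨z, hz⟩
        obtain ⟨z', rfl⟩ := (DSPtsLib.theta_bijective (g := g₂)).2 z
        exact ⟨z', (DSPtsLib.theta_bijective g₂).1 (by rw [theta_map', hz])⟩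
    haveI : Smooth (Red.bc h₂ (Red.bc h₁ M)).hom := smooth_into_of_tuple
      ((Over.pullback h₂).map ((Over.pullback h₁).map i)) ((Over.pullback h₂).map ((Over.pullback h₁).map c)) (hT s)
      ((Over.pullback h₂).map ((Over.pullback h₁).map m)) (key h₂ _ _ _ (key h₁ i c m hM'))
    haveI : Smooth (pullback.snd (pullback.snd M.hom h₁) h₂) := ‹Smooth (Red.bc h₂ (Red.bc h₁ M)).hom›
    rw [show pullback.snd M.hom (f s) =
      (pullbackLeftPullbackSndIso M.hom h₁ h₂).inv ≫ pullback.snd (pullback.snd M.hom h₁) h₂ from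
        (pullbackLeftPullbackSndIso_inv_snd_snd _ _ _).symm]
    infer_instance
  let p := Sigma.desc fun s => pullback.fst M.hom (f s)
  haveI : Smooth p := IsZariskiLocalAtSource.sigmaDesc fun s => inferInstance
  haveI : Surjective p := ⟨fun y => by
    obtain ⟨x, hxW, hx⟩ := hsW (M.hom y)
    obtain ⟨z, hz, -⟩ := Scheme.Pullback.exists_preimage_pullback (f := M.hom) (g := f (M.hom y)) y ⟨x, hxW⟩ (by
      rw [Scheme.Hom.comp_apply]; exact hx.symm)
    refine ⟨Sigma.ι (fun s => pullback M.hom (f s)) (M.hom y) z, ?_⟩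
    rw [← Scheme.Hom.comp_apply, Sigma.ι_desc]
    exact hz⟩
  refine SrcDescent.smooth_of_smooth_comp p M.hom ?_
  rw [show p ≫ M.hom = Sigma.desc fun s => pullback.fst M.hom (f s) ≫ M.hom from by
    ext s; simp [p]]
  exact IsZariskiLocalAtSource.sigmaDesc fun s => by
    haveI := hpiece s
    rw [pullback.condition]
    infer_instance

end Groth.Agent.CartanIn
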